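import Cfsg.Agent.Lib.CharDeep.ExactP.Main
import Cfsg.Agent.Lib.Blocks.DefectOneGalois

/-!
# A faithful character of degree `(p - 1) / 2`: blocks with two exceptional characters

The automizer has order `d` with `p = 2 d + 1`; the block over an invariant linear character of
`K0` has `d` nonexceptional and two exceptional characters.
-/

set_option autoImplicit false

open scoped ComplexConjugate Classical

namespace CfsgLib.Char.DegHalf

open Cfsg CfsgLib CfsgLib.Blocks CfsgLib.Blocks.DefectOne CfsgLib.CharDeep.ExactP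

universe u

variable {G : Type u} [Group G] [Fintype G] {p : ℕ} [hp : Fact p.Prime] {P : Sylow p G} {D : Frame P}

/-- The characters that do not vanish on the sections of `μ`. -/
structure HBlk (D : Frame P) (μ : IrrCharacter D.K0) (d : ℕ) where
  X : Finset (IrrCharacter G)
  Y : Finset (IrrCharacter G)
  s : IrrCharacter G → ℤ
  A : ℤ
  e : ℕ
  disj : Disjoint X Y
  card_X : X.card = d
  card_Y : Y.card = 2
  sgn_X : ∀ χ ∈ X, s χ = 1 ∨ s χ = -1
  sgn_A : A = 1 ∨ A = -1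
  sec_X : ∀ χ ∈ X, ∀ k : ZMod p, k ≠ 0 → D.sec μ χ k = s χ
  mod_X : ∀ χ ∈ X, (charDegree (χ : G → ℂ) : ℤ) ≡ s χ [ZMOD p]
  deg_Y : ∀ η ∈ Y, charDegree (η : G → ℂ) = e
  mod_Y : (e : ℤ) ≡ -A * d [ZMOD p]
  sum_Y_sec : ∀ k : ZMod p, k ≠ 0 → ∑ η ∈ Y, D.sec μ η k = A
  sum_sec_Y : ∀ η ∈ Y, ∑ k ∈ Finset.univ.erase (0 : ZMod p), D.sec μ η k = (d : ℂ) * (A : ℂ)
  val : ∀ χ : IrrCharacter G, χ ∈ X ∨ χ ∈ Y → ∀ k : ZMod p, k ≠ 0 → ∀ v : D.K0,
    (χ : G → ℂ) (D.el k v : G) = D.sec μ χ k * (μ : D.K0 → ℂ) v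
  out : ∀ χ : IrrCharacter G, χ ∉ X → χ ∉ Y → ∀ k : ZMod p, k ≠ 0 → D.sec μ χ k = 0
  agree : ∀ η ∈ Y, ∀ η' ∈ Y, ∀ g : G, ¬ p ∣ orderOf g → (η : G → ℂ) g = (η' : G → ℂ) g
  rel : ∀ η ∈ Y, ∀ g : G, ¬ p ∣ orderOf g →
    ∑ χ ∈ X, (s χ : ℂ) * (χ : G → ℂ) g + (A : ℂ) * (η : G → ℂ) g = 0
  col : ∀ a b : (ZMod p)ˣ, ∑ η ∈ Y, D.sec μ η a * conj (D.sec μ η b)
    = (if b * a⁻¹ ∈ D.act.range then (p : ℂ) else 0) - d

theorem exists_hblk {d : ℕ} (hd : 2 * d + 1 = p) (hq : Nat.card D.act.range = d)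
    (μ : IrrCharacter D.K0) (hμ : fdeg D μ = 1) (horb : D.orb μ = {μ}) : Nonempty (HBlk D μ d) := by
  obtain ⟨M, hM⟩ := exists_isPModular hp.out
  obtain ⟨B, hind⟩ := D.exists_induced hM μ
  obtain ⟨T⟩ := exists_shape D hM hind
  have hcard : Nat.card (D.autE μ) = d := by
    have h := D.card_orb_mul μ
    rwa [horb, Finset.card_singleton, one_mul, hq] at h
  have haut : D.autE μ = D.act.range :=
    Subgroup.eq_of_le_of_card_ge (Subgroup.map_le_range _ _) (by rw [hcard, hq])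
  have hμd : charDegree (μ : D.K0 → ℂ) = 1 := hμ
  have hd0 : 0 < d := hq ▸ Nat.card_pos
  have hcY : T.Y.card = 2 := by
    refine Nat.eq_of_mul_eq_mul_left hd0 ?_
    have h := T.card_Y
    rw [hcard] at h
    omega
  have hval : ∀ χ ∈ B, ∀ k : ZMod p, k ≠ 0 → ∀ v : D.K0,
      (χ : G → ℂ) (D.el k v : G) = D.sec μ χ k * (μ : D.K0 → ℂ) v := fun χ hχ k hk v => by
    rw [D.apply_el_orb hM hind hχ hk, horb, Finset.sum_singleton]
  have h1reg : ¬ p ∣ orderOf (1 : G) := by rw [orderOf_one]; exact hp.out.not_dvd_one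
  obtain ⟨η₀, hη₀⟩ : ∃ η, η ∈ T.Y := ⟨T.ζ 1, (T.mem_Y _).2 ⟨1, rfl⟩⟩
  have hout : ∀ χ : IrrCharacter G, χ ∉ T.X → χ ∉ T.Y → ∀ k : ZMod p, k ≠ 0 → D.sec μ χ k = 0 :=
    fun χ h1 h2 k hk => D.sec_eq_zero_of_notMem hM hind (fun h => ((T.mem_iff χ).1 h).elim h1 h2) hk
  have hsumY : ∀ k : ZMod p, k ≠ 0 → ∑ η ∈ T.Y, D.sec μ η k = (T.A : ℂ) := by
    intro k hk
    have h2 := D.sum_sec_mul_apply μ hk h1reg
    rw [← Finset.sum_subset (Finset.subset_univ (T.X ∪ T.Y)) fun χ _ hχ => by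
        rw [hout χ (fun h => hχ (Finset.mem_union_left _ h)) (fun h => hχ (Finset.mem_union_right _ h)) k hk, zero_mul],
      Finset.sum_union T.disj,
      Finset.sum_congr rfl (s₁ := T.X) fun χ hχ => by rw [T.sec_X χ hχ k hk],
      Finset.sum_congr rfl (s₁ := T.Y) (g := fun η' => D.sec μ η' k * (η₀ : G → ℂ) 1) fun η' hη' => by
        rw [T.agree η' hη' η₀ hη₀ 1 h1reg],
      ← Finset.sum_mul] at h2
    refine mul_right_cancel₀ (irr_one_ne_zero η₀) ?_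
    linear_combination h2 - T.rel η₀ hη₀ 1 h1reg
  have hshift : ∀ k, ∀ a : ZMod p, a ≠ 0 → D.sec μ (T.ζ k) a = D.sec μ (T.ζ 1) ((k : ZMod p) * a) := by
    intro k a ha
    rw [T.sec_Y k a ha, T.sec_Y 1 _ (mul_ne_zero (Units.ne_zero k) ha)]
    congr 2
    refine Finset.sum_bij' (fun l _ => k⁻¹ * l) (fun l _ => k * l) (fun l hl => ?_) (fun l hl => ?_)
      (fun l _ => mul_inv_cancel_left k l) (fun l _ => inv_mul_cancel_left k l) fun l _ => ?_
    · simp only [Finset.mem_filter, Finset.mem_univ, true_and] at hl ⊢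
      have h := (T.ζ_iff k l).1 hl.symm
      exact ((T.ζ_iff 1 _).2 (by rwa [inv_one, one_mul])).symm
    · simp only [Finset.mem_filter, Finset.mem_univ, true_and] at hl ⊢
      have h := (T.ζ_iff 1 l).1 hl.symm
      rw [inv_one, one_mul] at h
      exact ((T.ζ_iff k _).2 (by rwa [inv_mul_cancel_left])).symm
    · congr 1
      rw [show ((k⁻¹ * l : (ZMod p)ˣ) : ZMod p) * ((k : ZMod p) * a) = ((k⁻¹ * l * k : (ZMod p)ˣ) : ZMod p) * a by
        simp only [Units.val_mul, mul_assoc], mul_comm (k⁻¹ * l) k, mul_inv_cancel_left]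
  have hsum1 : ∀ η ∈ T.Y, ∑ a ∈ Finset.univ.erase (0 : ZMod p), D.sec μ η a
      = ∑ a ∈ Finset.univ.erase (0 : ZMod p), D.sec μ (T.ζ 1) a := by
    intro η hη
    obtain ⟨k, rfl⟩ := (T.mem_Y η).1 hη
    refine Finset.sum_equiv (Units.mulLeft k) (fun a => ?_) fun a ha => ?_
    · simp
    · rw [hshift k a (Finset.ne_of_mem_erase ha)]; rfl
  have hsumη : ∀ η ∈ T.Y, ∑ k ∈ Finset.univ.erase (0 : ZMod p), D.sec μ η k = (d : ℂ) * (T.A : ℂ) := by
    intro η hη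
    refine mul_left_cancel₀ (show (2 : ℂ) ≠ 0 from two_ne_zero) ?_
    rw [hsum1 η hη, ← Nat.cast_two, ← hcY, ← nsmul_eq_mul, ← Finset.sum_const, ← Finset.sum_congr rfl hsum1, Finset.sum_comm,
      Finset.sum_congr rfl fun k hk => hsumY k (Finset.ne_of_mem_erase hk), Finset.sum_const,
      Finset.card_erase_of_mem (Finset.mem_univ _), Finset.card_univ, ZMod.card, nsmul_eq_mul, hcY,
      show p - 1 = 2 * d by omega]
    push_cast
    ring
  have hmodX : ∀ χ ∈ T.X, (charDegree (χ : G → ℂ) : ℤ) ≡ T.sgn χ [ZMOD p] := fun χ hχ => by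
    have h := T.deg_X χ hχ
    rwa [horb, Finset.card_singleton, one_mul, hμd, Nat.cast_one, mul_one] at h
  have hdegY : ∀ η ∈ T.Y, charDegree (η : G → ℂ) = charDegree (η₀ : G → ℂ) := fun η hη => by
    have h := T.agree η hη η₀ hη₀ 1 h1reg
    simp only [irr_one_eq] at h
    exact_mod_cast h
  refine ⟨⟨T.X, T.Y, T.sgn, T.A, charDegree (η₀ : G → ℂ), T.disj, T.card_X.trans hcard, hcY, T.sgn_X, T.sgn_A,
    T.sec_X, hmodX, hdegY, ?_, hsumY, hsumη, fun χ hχ => hval χ ((T.mem_iff χ).2 hχ), hout, T.agree, T.rel,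
    fun a b => ?_⟩⟩
  · have h := T.deg_Y η₀ hη₀
    rwa [hq, hμd, mul_one] at h
  · have h := D.sum_sec_mul_conj μ a b
    rw [← Finset.sum_subset (Finset.subset_univ (T.X ∪ T.Y)) fun χ _ hχ => by
        rw [hout χ (fun h => hχ (Finset.mem_union_left _ h)) (fun h => hχ (Finset.mem_union_right _ h)) _
          (Units.ne_zero a), zero_mul],
      Finset.sum_union T.disj,
      Finset.sum_congr rfl (s₁ := T.X) (g := fun _ => (1 : ℂ)) fun χ hχ => by
        rw [T.sec_X χ hχ _ (Units.ne_zero a), T.sec_X χ hχ _ (Units.ne_zero b), map_intCast]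
        rcases T.sgn_X χ hχ with e | e <;> rw [e] <;> norm_num,
      Finset.sum_const, T.card_X, hcard, nsmul_eq_mul, mul_one, haut] at h
    by_cases hm : b * a⁻¹ ∈ D.act.range
    · rw [if_pos hm] at h ⊢
      linear_combination h
    · rw [if_neg hm] at h ⊢
      linear_combination h

namespace HBlk

variable {μ : IrrCharacter D.K0} {d : ℕ} (K : HBlk D μ d)

include K in
theorem mem_of_sec_ne {χ : IrrCharacter G} {k : ZMod p} (hk : k ≠ 0) (h : D.sec μ χ k ≠ 0) : χ ∈ K.X ∨ χ ∈ K.Y := by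
  by_contra hc
  push Not at hc
  exact h (K.out χ hc.1 hc.2 k hk)

theorem val_x (hμ : fdeg D μ = 1) {χ : IrrCharacter G} (hχ : χ ∈ K.X ∨ χ ∈ K.Y) {k : ZMod p} (hk : k ≠ 0) :
    (χ : G → ℂ) (D.x ^ k.val) = D.sec μ χ k := by
  have h := K.val χ hχ k hk 1
  rwa [D.coe_el, OneMemClass.coe_one, mul_one, irr_one_eq μ, show charDegree (μ : D.K0 → ℂ) = 1 from hμ,
    Nat.cast_one, mul_one] at h

end HBlk

end CfsgLib.Char.DegHalf
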