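import Cfsg.Agent.Lib.Char.DegHalf.Reduce
import Cfsg.Agent.Lib.Char.DegHalf.Block

/-!
# A faithful character of degree `(p - 1) / 2`: the automizer and the centralizer

The automizer has order `(p - 1) / 2` and the `p'`-part of the centralizer is the centre.
-/

set_option autoImplicit false

open scoped ComplexConjugate Classical

namespace CfsgLib.Char.DegHalf

open Cfsg CfsgLib CfsgLib.Blocks CfsgLib.Blocks.DefectOne CfsgLib.CharDeep CfsgLib.CharDeep.ExactP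

universe u

variable {G : Type u} [Group G] [Fintype G] {p : ℕ} [hp : Fact p.Prime] {P : Sylow p G} {D : Frame P}
  {ζ : IrrCharacter G}

/-- The data. -/
structure Half (D : Frame P) (ζ : IrrCharacter G) : Prop where
  five_le : 5 ≤ p
  deg : 2 * charDegree (ζ : G → ℂ) + 1 = p
  faithful : ∀ g : G, (ζ : G → ℂ) g = (ζ : G → ℂ) 1 → g = 1
  nn : ¬ (P : Subgroup G).Normal

theorem Half.moves (H : Half D ζ) : ∃ u ∈ (P : Subgroup G), (ζ : G → ℂ) u ≠ (ζ : G → ℂ) 1 :=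
  ⟨D.x, D.x_mem, fun e => hp.out.one_lt.ne (by rw [← D.ord, H.faithful _ e, orderOf_one])⟩

theorem Half.hPZ (H : Half D ζ) : (P : Subgroup G) ⊓ Subgroup.center G = ⊥ := by
  by_contra hne
  obtain ⟨w, hw, hw1⟩ := (Subgroup.bot_or_exists_ne_one _).resolve_left hne
  refine H.nn ?_
  have hle : (P : Subgroup G) ≤ Subgroup.center G := by
    rw [← PrimeOrder.zpowers_eq P D.card_P hw.1 hw1, Subgroup.zpowers_le]
    exact hw.2
  exact ⟨fun v hv g => by rwa [Subgroup.mem_center_iff.1 (hle hv) g, mul_inv_cancel_right]⟩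

theorem Half.hTI (H : Half D ζ) :
    ∀ g : G, ∀ c ∈ cent P, c ∉ Subgroup.center G → g * c * g⁻¹ ∈ cent P → g ∈ nrm P := by
  intro g c hc hcZ hgc
  have hN := centralizer_le_normalizer D.hp2 P ζ.2 H.faithful H.deg
    (fun u hu => Subgroup.mem_centralizer_iff.1 hc u hu) hcZ
  set C := Subgroup.centralizer ({c} : Set G)
  have hxC : g⁻¹ * D.x * g ∈ C := by
    rw [Subgroup.mem_centralizer_singleton_iff]
    have h := Subgroup.mem_centralizer_iff.1 hgc D.x D.x_mem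
    calc g⁻¹ * D.x * g * c = g⁻¹ * (D.x * (g * c * g⁻¹)) * g := by group
      _ = g⁻¹ * (g * c * g⁻¹ * D.x) * g := by rw [h]
      _ = c * (g⁻¹ * D.x * g) := by group
  have hxp : IsPGroup p (Subgroup.zpowers (g⁻¹ * D.x * g)) := IsPGroup.of_card (n := 1) (by
    rw [Nat.card_zpowers, pow_one, show g⁻¹ * D.x * g = MulAut.conj g⁻¹ D.x by simp,
      (MulAut.conj g⁻¹).orderOf_eq, D.ord])
  have hxP : g⁻¹ * D.x * g ∈ (P : Subgroup G) :=
    (P.3 (IsPGroup.to_sup_of_normal_right' hxp P.2 (Subgroup.zpowers_le.2 (hN hxC))) le_sup_right).le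
      ((le_sup_left : Subgroup.zpowers (g⁻¹ * D.x * g) ≤ _) (Subgroup.mem_zpowers _))
  have hgi : g⁻¹ ∈ nrm P := by
    refine Subgroup.mem_normalizer_fintype fun v hv => ?_
    have hv' : v ∈ Subgroup.zpowers D.x := by rw [D.zp]; exact hv
    obtain ⟨i, rfl⟩ := Subgroup.mem_zpowers_iff.1 hv'
    rw [← conj_zpow, inv_inv]
    exact zpow_mem hxP i
  simpa using inv_mem hgi

/-- The constituents of `ζ * conj ζ`. -/
theorem Half.constituents (H : Half D ζ) :
    ∃ a : IrrCharacter G → ℕ,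
      (∀ φ : IrrCharacter G, classInner (fun g => (ζ : G → ℂ) g * conj ((ζ : G → ℂ) g)) (φ : G → ℂ) = a φ) ∧
      (∀ g, (ζ : G → ℂ) g * conj ((ζ : G → ℂ) g) = ∑ φ, (a φ : ℂ) * (φ : G → ℂ) g) ∧
      a (DegreeTools.oneChar G) = 1 ∧
      ∑ φ, a φ * charDegree (φ : G → ℂ) = charDegree (ζ : G → ℂ) * charDegree (ζ : G → ℂ) ∧
      ∑ φ, a φ * mult D (θone D) φ 0 = normC D ζ ∧
      ∑ φ, a φ * nP D φ 0 = ∑ k, nP D ζ k ^ 2 ∧
      ∀ φ, φ ≠ DegreeTools.oneChar G → a φ ≠ 0 → ∃ u ∈ (P : Subgroup G), (φ : G → ℂ) u ≠ (φ : G → ℂ) 1 := by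
  have hΦ : Cfsg.IsCharacter G (fun g => (ζ : G → ℂ) g * conj ((ζ : G → ℂ) g)) :=
    Char.IsCharacter.mul (Char.isCharacter_irr ζ) (Char.IsCharacter.conj' (Char.isCharacter_irr ζ))
  obtain ⟨a, ha, hexp⟩ := Char.IsCharacter.exists_multiplicity hΦ
  refine ⟨a, ha, hexp, ?_, ?_, ?_, ?_, fun φ hne h0 => ?_⟩
  · apply Nat.cast_injective (R := ℂ)
    rw [← ha, Nat.cast_one, ← Char.classInner_irr_self ζ.2, Cfsg.classInner, Cfsg.classInner]
    simp
  · apply Nat.cast_injective (R := ℂ)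
    have h := hexp 1
    simp only [irr_one_eq, map_natCast] at h
    push_cast
    exact h.symm
  · apply Nat.cast_injective (R := ℂ)
    have h := sum_normSq_cent D ζ
    simp only [hexp] at h
    rw [Finset.sum_comm] at h
    simp only [← Finset.mul_sum, sum_cent D] at h
    push_cast
    refine mul_left_cancel₀ (Char.card_ne_zero (G := cent P)) ?_
    rw [← h, Finset.mul_sum]
    exact Finset.sum_congr rfl fun φ _ => by ring
  · apply Nat.cast_injective (R := ℂ)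
    have h := sum_normSq_xpow D ζ
    simp only [hexp] at h
    rw [Finset.sum_comm] at h
    simp only [← Finset.mul_sum, sum_xpow D] at h
    rw [Nat.cast_sum]
    refine mul_left_cancel₀ (Nat.cast_ne_zero.2 hp.out.ne_zero : (p : ℂ) ≠ 0) ?_
    rw [← h, Finset.mul_sum]
    exact Finset.sum_congr rfl fun φ _ => by push_cast; ring
  · exact constituent_moves D.hp2 P H.nn ζ.2 H.faithful H.deg hne (by rw [ha]; exact_mod_cast h0)

/-- The gain of a constituent outside the principal block. -/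
theorem Half.gain (H : Half D ζ) {m f : ℕ} (hm : Nat.card D.act.range = m) (h3 : 3 * m ≤ p - 1) (hf : 2 ≤ f)
    (hmf : charDegree (ζ : G → ℂ) = f * m)
    (hkey : ∀ φ : IrrCharacter G, (p : ℤ) * f ^ 2 * ((normC D φ : ℤ) - m) < (charDegree (φ : G → ℂ) : ℤ) ^ 2)
    {φ : IrrCharacter G} (hmove : ∃ u ∈ (P : Subgroup G), (φ : G → ℂ) u ≠ (φ : G → ℂ) 1)
    (hno : ¬ (p : ℤ) * nP D φ 0 ≤ charDegree (φ : G → ℂ) + p * mult D (θone D) φ 0) :
    ((p : ℤ) * f + 1) * mult D (θone D) φ 0 + p * f - f * m - m ≤ 2 * charDegree (φ : G → ℂ) := by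
  set M : ℤ := (mult D (θone D) φ 0 : ℤ) with hMdef
  set x : ℤ := (charDegree (φ : G → ℂ) : ℤ) with hxdef
  set N : ℤ := (normC D φ : ℤ) with hNdef
  have hk := hkey φ
  rw [← hNdef, ← hxdef] at hk
  have hx0 : 0 ≤ x := Nat.cast_nonneg _
  have hf' : (2 : ℤ) ≤ f := by exact_mod_cast hf
  have hp' : 2 * ((f : ℤ) * m) + 1 = p := by
    have h := H.deg
    rw [hmf] at h
    exact_mod_cast h
  have hm1 : (1 : ℤ) ≤ m := by exact_mod_cast hm ▸ Nat.card_pos
  have hfm : (2 : ℤ) * m ≤ f * m := mul_le_mul_of_nonneg_right hf' (by linarith)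
  have hp0 : (0 : ℤ) ≤ p := Nat.cast_nonneg _
  rcases Nat.eq_zero_or_pos (mult D (θone D) φ 0) with hM | hM
  · have hM' : M = 0 := by rw [hMdef, hM, Nat.cast_zero]
    rw [hM', mul_zero, zero_add]
    rw [hM'] at hno
    obtain ⟨θ, -, hθ⟩ := Finset.exists_ne_zero_of_sum_ne_zero (show ∑ θ, fdeg D θ * mult D θ φ 0 ≠ 0 from fun h =>
      hno (by rw [nP, h, Nat.cast_zero]; simpa using hx0))
    have hN := normC_ge_of_pos D hm h3 hmove (θ := θ) (Nat.pos_of_ne_zero fun e => hθ (by rw [e, mul_zero]))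
    rw [← hNdef] at hN
    have h5 : (p : ℤ) * f < 2 * x := lt_two_mul hx0 hk (by
      nlinarith [mul_le_mul_of_nonneg_left (show (p : ℤ) ≤ 4 * (N - m) by linarith)
        (by positivity : (0 : ℤ) ≤ (p : ℤ) * f ^ 2)])
    nlinarith
  have hM1 : (1 : ℤ) ≤ M := by rw [hMdef]; exact_mod_cast hM
  have hc : IsConst D (θone D) φ := by
    by_contra hc
    refine hno ?_
    have h := deg_eq_of_const D (ψ := φ) fun θ hθ => by
      by_contra hc'
      exact hθ (eq_θone_of_mem_orb D (mem_orb_of_not_isConst D hc hc'))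
    rw [← hxdef, ← hMdef, mul_sub] at h
    have h0 : (0 : ℤ) ≤ ((∑ k, mult D (θone D) φ k : ℕ) : ℤ) := Nat.cast_nonneg _
    linarith
  have hN : (p : ℤ) * M ^ 2 ≤ N := by
    have hs : ((∑ k, mult D (θone D) φ k ^ 2 : ℕ) : ℤ) ≤ N := Int.ofNat_le.2 (sq_le_normC D φ _)
    rw [Finset.sum_congr rfl fun k _ => by rw [hc k], Finset.sum_const, Finset.card_univ, ZMod.card, smul_eq_mul] at hs
    push_cast at hs
    rw [← hMdef] at hs
    exact hs
  have hMN : ((p : ℤ) - m) * M ^ 2 ≤ N - m := by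
    nlinarith [mul_le_mul_of_nonneg_left (one_le_pow₀ hM1 : (1 : ℤ) ≤ M ^ 2) (by linarith : (0 : ℤ) ≤ (m : ℤ))]
  rcases eq_or_lt_of_le hM1 with h1 | h2
  · rw [← h1] at hMN ⊢
    have hlin : (f : ℤ) * m + m ≤ 2 * p * f := by nlinarith
    have hsq : ((f : ℤ) * m + m) ^ 2 ≤ 4 * p * (f * m) := by
      have e1 : ((f : ℤ) * m + m) ^ 2 ≤ (2 * (f * m)) ^ 2 := pow_le_pow_left₀ (by positivity) (by linarith) 2
      nlinarith [mul_le_mul_of_nonneg_right (show (f : ℤ) * m ≤ p by linarith) (show (0 : ℤ) ≤ 4 * (f * m) by positivity)]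
    have hkey2 : (2 * (p : ℤ) * f - f * m - m) ^ 2 ≤ 4 * ((p : ℤ) * f ^ 2 * ((p : ℤ) - m)) := by linear_combination hsq
    have h5 : 2 * (p : ℤ) * f - f * m - m < 2 * x := lt_two_mul hx0 hk (hkey2.trans (by
      nlinarith [mul_le_mul_of_nonneg_left hMN (by positivity : (0 : ℤ) ≤ 4 * ((p : ℤ) * f ^ 2))]))
    linarith
  · have h5 : (2 * (p : ℤ) * f - p + 1) * M < 2 * x := lt_two_mul hx0 hk (by
      have e1 := sq_special_le (p := (p : ℤ)) (f := f) (m := m) (by have := H.five_le; omega) hf' (by linarith)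
        (by linarith)
      nlinarith [mul_le_mul_of_nonneg_right e1 (sq_nonneg M),
        mul_le_mul_of_nonneg_left hMN (by positivity : (0 : ℤ) ≤ 4 * (p : ℤ) * f ^ 2)])
    have h6 : ((p : ℤ) * f - p) * 2 ≤ ((p : ℤ) * f - p) * M := mul_le_mul_of_nonneg_left (by omega) (by nlinarith)
    have h7 : (p : ℤ) * 2 ≤ p * f := mul_le_mul_of_nonneg_left hf' hp0
    nlinarith

set_option maxHeartbeats 1000000 in
/-- The automizer has order `(p - 1) / 2`. -/
theorem Half.range (H : Half D ζ) : Nat.card D.act.range = charDegree (ζ : G → ℂ) := by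
  obtain ⟨θ₁, k₁, hk₁, hpos₁⟩ := exists_mult_pos D H.moves
  have hle := mul_range_le_deg D hk₁ hpos₁
  have hdvd : Nat.card D.act.range ∣ p - 1 := by
    have h := D.act.range.card_subgroup_dvd_card
    rwa [Nat.card_eq_fintype_card (α := (ZMod p)ˣ), ZMod.card_units] at h
  have hd := H.deg
  have hqd : Nat.card D.act.range ≤ charDegree (ζ : G → ℂ) :=
    (Nat.le_mul_of_pos_left _ (fdeg_pos D θ₁)).trans hle
  refine le_antisymm hqd (not_lt.1 fun hlt => ?_)
  have h3 : 3 * Nat.card D.act.range ≤ p - 1 := by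
    obtain ⟨t, ht⟩ := hdvd
    have h1 : Nat.card D.act.range * 2 < Nat.card D.act.range * t := by omega
    have h2 : 3 ≤ t := Nat.lt_of_mul_lt_mul_left h1
    rw [ht, mul_comm 3]
    exact Nat.mul_le_mul_left _ h2
  obtain ⟨m, θ₀, hm, -, hdeg, hN, hsq⟩ := small_shape D H.moves (by omega) h3
  rw [hm] at hlt h3
  set f := fdeg D θ₀ with hf
  have hf2 : 2 ≤ f := by
    by_contra hc
    have : f * m ≤ 1 * m := Nat.mul_le_mul_right _ (by omega)
    omega
  have hkey : ∀ φ : IrrCharacter G,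
      (p : ℤ) * f ^ 2 * ((normC D φ : ℤ) - m) < (charDegree (φ : G → ℂ) : ℤ) ^ 2 := by
    intro φ
    have h1 := ti_bound D H.hTI φ
    rw [hm] at h1
    have h2 : (f : ℤ) ^ 2 * Nat.card (Subgroup.center G) ≤ Nat.card D.K0 := by
      exact_mod_cast fdeg_sq_le D H.hPZ θ₀
    by_cases hN' : (normC D φ : ℤ) - m ≤ 0
    · exact lt_of_le_of_lt (mul_nonpos_of_nonneg_of_nonpos (by positivity) hN')
        (pow_pos (by exact_mod_cast charDegree_pos φ) 2)
    refine lt_of_mul_lt_mul_left ?_ (Nat.cast_nonneg (Nat.card (Subgroup.center G)))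
    refine lt_of_le_of_lt ?_ h1
    nlinarith [mul_le_mul_of_nonneg_left h2 (mul_nonneg (Nat.cast_nonneg p : (0 : ℤ) ≤ p) (not_le.1 hN').le)]
  have hm0 : 0 < m := hm ▸ Nat.card_pos
  have hp2 : 2 * m * f + 1 ≤ p := by
    rw [← H.deg, hdeg]
    exact le_of_eq (by ring)
  obtain ⟨a, -, -, ha1, e1, e2, e3, hmv⟩ := H.constituents
  set ι := DegreeTools.oneChar G
  set s := Finset.univ.erase ι with hs
  rw [← Finset.add_sum_erase _ _ (Finset.mem_univ ι), ha1, one_mul, DegreeTools.deg_oneChar, ← hs] at e1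
  rw [← Finset.add_sum_erase _ _ (Finset.mem_univ ι), ha1, one_mul, mult_oneChar, ← hs, hN] at e2
  rw [← Finset.add_sum_erase _ _ (Finset.mem_univ ι), ha1, one_mul, nP_oneChar, ← hs] at e3
  set A : ℤ := ((∑ φ ∈ s, a φ * mult D (θone D) φ 0 : ℕ) : ℤ) with hA
  set B : ℤ := ((∑ φ ∈ s, a φ * nP D φ 0 : ℕ) : ℤ) with hB
  set S : ℤ := ((∑ φ ∈ s, a φ * charDegree (φ : G → ℂ) : ℕ) : ℤ) with hS
  have hA' : A = (m : ℤ) - 1 := by rw [hA]; omega
  have hS' : S = ((f : ℤ) * m) * (f * m) - 1 := by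
    have h : (1 : ℤ) + S = ((charDegree (ζ : G → ℂ) : ℕ) : ℤ) * (charDegree (ζ : G → ℂ) : ℕ) := by
      rw [hS]; exact_mod_cast e1
    rw [hdeg] at h
    push_cast at h
    linarith
  have hB' : (f : ℤ) * (f * m) - 1 ≤ B := by
    have h : (1 : ℤ) + B = ((∑ k, nP D ζ k ^ 2 : ℕ) : ℤ) := by rw [hB]; exact_mod_cast e3
    have h2 : ((f * (f * m) : ℕ) : ℤ) ≤ ((∑ k, nP D ζ k ^ 2 : ℕ) : ℤ) := by exact_mod_cast hsq
    push_cast at h2 h
    linarith
  have hp' : 2 * ((f : ℤ) * m) + 1 = p := by rw [hdeg] at hd; exact_mod_cast hd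
  have bd := fun (φ : IrrCharacter G) (hu : ∃ u ∈ (P : Subgroup G), (φ : G → ℂ) u ≠ (φ : G → ℂ) 1) =>
    irr_bound D hm h3 hp2 hkey hu
  have hf' : (2 : ℤ) ≤ f := by exact_mod_cast hf2
  by_cases hspec : ∃ φ ∈ s, a φ ≠ 0 ∧ ¬ (p : ℤ) * nP D φ 0 ≤ charDegree (φ : G → ℂ) + p * mult D (θone D) φ 0
  · obtain ⟨φ₁, hφ₁, hne, hno⟩ := hspec
    have hg := H.gain hm h3 hf2 hdeg hkey (hmv φ₁ (Finset.ne_of_mem_erase hφ₁) hne) hno
    have h1 : ((p : ℤ) * f + 1) * A + (p * f - f * m - m) ≤ 2 * S := by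
      rw [hA, hS]
      push_cast
      rw [Finset.mul_sum, Finset.mul_sum, ← Finset.add_sum_erase _ _ hφ₁, ← Finset.add_sum_erase _ _ hφ₁]
      have h2 : ∑ φ ∈ s.erase φ₁, ((p : ℤ) * f + 1) * ((a φ : ℤ) * mult D (θone D) φ 0)
          ≤ ∑ φ ∈ s.erase φ₁, 2 * ((a φ : ℤ) * charDegree (φ : G → ℂ)) :=
        Finset.sum_le_sum fun φ hφ => by
          rcases Nat.eq_zero_or_pos (a φ) with h0 | h0
          · simp [h0]
          have := mul_le_mul_of_nonneg_left
            ((bd φ (hmv φ (Finset.ne_of_mem_erase (Finset.mem_of_mem_erase hφ)) h0.ne')).2 hf2).1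
            (Nat.cast_nonneg (a φ) : (0 : ℤ) ≤ a φ)
          linarith
      have h3 := mul_le_mul_of_nonneg_left hg (Nat.cast_nonneg (a φ₁) : (0 : ℤ) ≤ a φ₁)
      have hG0 : 0 ≤ (p : ℤ) * f - f * m - m := by
        have := mul_le_mul_of_nonneg_left hf' (Nat.cast_nonneg p : (0 : ℤ) ≤ p)
        have := mul_le_mul_of_nonneg_right hf' (Nat.cast_nonneg m : (0 : ℤ) ≤ m)
        linarith
      have h4 : ((p : ℤ) * f - f * m - m) * 1 ≤ ((p : ℤ) * f - f * m - m) * a φ₁ :=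
        mul_le_mul_of_nonneg_left (by exact_mod_cast Nat.pos_of_ne_zero hne) hG0
      linarith
    rw [hA', hS', ← hp'] at h1
    linarith
  · push Not at hspec
    have h1 : (p : ℤ) * B ≤ S + p * A := by
      rw [hA, hB, hS]
      push_cast
      rw [Finset.mul_sum, Finset.mul_sum, ← Finset.sum_add_distrib]
      refine Finset.sum_le_sum fun φ hφ => ?_
      rcases Nat.eq_zero_or_pos (a φ) with h0 | h0
      · simp [h0]
      have := mul_le_mul_of_nonneg_left (hspec φ hφ h0.ne') (Nat.cast_nonneg (a φ) : (0 : ℤ) ≤ a φ)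
      linarith
    rw [hA', hS', ← hp'] at h1
    have h2 := mul_le_mul_of_nonneg_left hB' (show (0 : ℤ) ≤ 2 * (f * m) + 1 by positivity)
    have hm1 : (1 : ℤ) ≤ m := by exact_mod_cast hm0
    have h3 : (m : ℤ) * 3 ≤ m * (f * f - 1) := mul_le_mul_of_nonneg_left (by nlinarith) (by linarith)
    nlinarith [mul_le_mul_of_nonneg_left h3 (show (0 : ℤ) ≤ f * m by positivity),
      mul_le_mul_of_nonneg_right hf' (show (0 : ℤ) ≤ m * m * f by positivity)]

end CfsgLib.Char.DegHalf
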