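import Cfsg.Agent.Lib.Char.DegHalf.Center

/-!
# A faithful character of degree `(p - 1) / 2`: the centralizer is `P` times the centre
-/

set_option autoImplicit false

open scoped ComplexConjugate Classical

namespace CfsgLib.Char.DegHalf

open Cfsg CfsgLib CfsgLib.Blocks CfsgLib.Blocks.DefectOne CfsgLib.CharDeep CfsgLib.CharDeep.ExactP

universe u

variable {G : Type u} [Group G] [Fintype G] {p : ℕ} [hp : Fact p.Prime] {P : Sylow p G} {D : Frame P}
  {ζ : IrrCharacter G}

/-- The multiplicities at a fixed character of `K0` sum to `p` times the trivial one. -/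
theorem sum_sec_eq (θ : IrrCharacter D.K0) (φ : IrrCharacter G) :
    ((∑ k, mult D θ φ k : ℕ) : ℂ) + ∑ a ∈ Finset.univ.erase (0 : ZMod p), D.sec θ φ a = (p : ℂ) * mult D θ φ 0 := by
  have h0 : D.sec θ φ 0 = ((∑ k, mult D θ φ k : ℕ) : ℂ) := by
    rw [sec_eq, Nat.cast_sum]
    simp only [mul_zero, AddChar.map_zero_eq_one, mul_one]
  rw [← h0, Finset.add_sum_erase _ (fun a => D.sec θ φ a) (Finset.mem_univ (0 : ZMod p))]
  simp only [sec_eq]
  rw [Finset.sum_comm]
  simp only [← Finset.mul_sum, Frame.sum_std']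
  rw [Finset.sum_eq_single (0 : ZMod p) (fun k _ hk => by rw [if_neg hk, mul_zero])
    (fun h => absurd (Finset.mem_univ _) h), if_pos rfl, mul_comm]

/-- A constituent costs half of `p + 1` for each trivial multiplicity. -/
theorem two_deg_bound {d : ℕ} (hd : 2 * d + 1 = p) (K : HBlk D (θone D) d)
    {φ : IrrCharacter G} (hmove : ∃ u ∈ (P : Subgroup G), (φ : G → ℂ) u ≠ (φ : G → ℂ) 1) :
    (p + 1) * mult D (θone D) φ 0 ≤ 2 * charDegree (φ : G → ℂ) ∧
      ((p + 1) * mult D (θone D) φ 0 = 2 * charDegree (φ : G → ℂ) →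
        ∑ k, mult D (θone D) φ k = charDegree (φ : G → ℂ)) := by
  set M := mult D (θone D) φ 0 with hM
  set x := charDegree (φ : G → ℂ) with hx
  set T := ∑ k, mult D (θone D) φ k with hT
  have hx0 : 0 < x := charDegree_pos φ
  have hTx : T ≤ x := sum_mult_le_deg D φ _
  rcases Nat.eq_zero_or_pos M with h0 | hM0
  · rw [h0, mul_zero]
    exact ⟨Nat.zero_le _, fun e => absurd e (by omega)⟩
  have hd0 : 0 < d := by
    by_contra hc
    obtain rfl : d = 0 := by omega
    exact absurd hp.out (by rw [← hd]; norm_num)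
  have hkey : (φ ∈ K.X ∧ K.s φ = 1 ∧ M = 1) ∨ (p + 1) * M ≤ 2 * T := by
    have hsum := sum_sec_eq (θone D) φ
    rw [← hT, ← hM] at hsum
    by_cases hX : φ ∈ K.X
    · rw [Finset.sum_congr rfl fun a ha => K.sec_X φ hX a (Finset.ne_of_mem_erase ha), Finset.sum_const,
        Finset.card_erase_of_mem (Finset.mem_univ _), Finset.card_univ, ZMod.card, nsmul_eq_mul,
        show p - 1 = 2 * d by omega] at hsum
      have h : (T : ℤ) + ((2 * d : ℕ) : ℤ) * K.s φ = (p : ℤ) * M := by exact_mod_cast hsum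
      push_cast at h
      rcases K.sgn_X φ hX with hs | hs <;> rw [hs] at h
      · rcases eq_or_lt_of_le (show 1 ≤ M from hM0) with h1 | h1
        · exact Or.inl ⟨hX, hs, h1.symm⟩
        · refine Or.inr ?_
          have h2 : ((2 * d : ℕ) : ℤ) * 2 ≤ ((2 * d : ℕ) : ℤ) * M :=
            mul_le_mul_of_nonneg_left (by exact_mod_cast h1) (Nat.cast_nonneg _)
          have hpd : (p : ℤ) = 2 * d + 1 := by exact_mod_cast hd.symm
          zify
          push_cast at h2
          rw [hpd] at h ⊢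
          linarith
      · refine Or.inr ?_
        have hpd : (p : ℤ) = 2 * d + 1 := by exact_mod_cast hd.symm
        zify
        rw [hpd] at h ⊢
        have : (0 : ℤ) ≤ (d : ℤ) * M := by positivity
        linarith
    refine Or.inr ?_
    have hpd : (p : ℤ) = 2 * d + 1 := by exact_mod_cast hd.symm
    by_cases hY : φ ∈ K.Y
    · rw [K.sum_sec_Y φ hY] at hsum
      have h : (T : ℤ) + (d : ℤ) * K.A = (p : ℤ) * M := by exact_mod_cast hsum
      zify
      rw [hpd] at h ⊢
      have hA : (d : ℤ) * K.A ≤ d * M :=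
        mul_le_mul_of_nonneg_left (by rcases K.sgn_A with e | e <;> rw [e] <;> omega) (Nat.cast_nonneg _)
      linarith
    · rw [Finset.sum_eq_zero fun a ha => K.out φ hX hY a (Finset.ne_of_mem_erase ha), add_zero] at hsum
      have h : T = p * M := by exact_mod_cast hsum
      rw [h]
      have : 1 * M ≤ p * M := Nat.mul_le_mul_right _ hp.out.one_le
      rw [one_mul] at this
      rw [add_mul, one_mul, two_mul]
      omega
  rcases hkey with ⟨hX, hs, hM1⟩ | hle
  · have hbig : p + 1 ≤ x := by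
      have hmod := K.mod_X φ hX
      rw [hs, ← hx] at hmod
      obtain ⟨z, hz⟩ := Int.modEq_iff_dvd.1 hmod.symm
      by_contra hc
      have hx1 : x = 1 := by
        rcases lt_trichotomy z 0 with h | h | h
        · have : (p : ℤ) * z ≤ p * (-1) := mul_le_mul_of_nonneg_left (by omega) (Nat.cast_nonneg _)
          have := hp.out.two_le
          omega
        · subst h; omega
        · have : (p : ℤ) * 1 ≤ p * z := mul_le_mul_of_nonneg_left (by omega) (Nat.cast_nonneg _)
          omega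
      obtain ⟨θ, k, hk, hpos⟩ := exists_mult_pos D hmove
      have hdeg := deg_eq D φ
      rw [← hx, hx1, ← Finset.add_sum_erase _ _ (Finset.mem_univ (0 : ZMod p))] at hdeg
      have h0 : 1 ≤ nP D φ 0 := by
        refine le_trans ?_ (Finset.single_le_sum (f := fun t => fdeg D t * mult D t φ 0)
          (fun _ _ => Nat.zero_le _) (Finset.mem_univ (θone D)))
        rw [fdeg_θone, one_mul]
        exact hM0
      have hk1 : 1 ≤ nP D φ k := by
        refine le_trans ?_ (Finset.single_le_sum (f := fun t => fdeg D t * mult D t φ k)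
          (fun _ _ => Nat.zero_le _) (Finset.mem_univ θ))
        exact Nat.one_le_iff_ne_zero.2 (Nat.mul_pos (fdeg_pos D θ) hpos).ne'
      have := Finset.single_le_sum (f := fun k => nP D φ k) (fun _ _ => Nat.zero_le _)
        (Finset.mem_erase.2 ⟨hk, Finset.mem_univ k⟩)
      omega
    rw [hM1, mul_one]
    exact ⟨by omega, fun e => by omega⟩
  · exact ⟨by omega, fun e => le_antisymm hTx (by omega)⟩

set_option maxHeartbeats 1000000 in
/-- The `p'`-part of the centralizer is the centre. -/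
theorem Half.K0_eq (H : Half D ζ) : D.K0 = Subgroup.center G := by
  refine le_antisymm ?_ (center_le_K0 D H.hPZ)
  set d := charDegree (ζ : G → ℂ) with hddef
  have hq := H.range
  have hd := H.deg
  rw [← hddef] at hd hq
  obtain ⟨θ, k₀, hk₀, hpos⟩ := exists_mult_pos D H.moves
  have hfd := mul_range_le_deg D hk₀ hpos
  rw [hq, ← hddef] at hfd
  have hd0 : 0 < d := charDegree_pos ζ
  -- each linear character of `P` occurs at most once
  have h01 : ∀ k, nP D ζ k ≤ 1 := by
    set T := (Finset.univ : Finset D.act.range).image fun u : D.act.range => k₀ * ((u : (ZMod p)ˣ) : ZMod p) with hT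
    have hcard : T.card = d := by
      rw [hT, Finset.card_image_of_injective _ fun a b e => Subtype.ext (Units.ext (mul_left_cancel₀ hk₀ e)),
        Finset.card_univ, ← Nat.card_eq_fintype_card, hq]
    have hle : ∀ l ∈ T, 1 ≤ nP D ζ l := by
      intro l hl
      obtain ⟨⟨u, g, rfl⟩, -, rfl⟩ := Finset.mem_image.1 hl
      refine le_trans ?_ (Finset.single_le_sum (f := fun t => fdeg D t * mult D t ζ (k₀ * (D.act g : ZMod p)))
        (fun _ _ => Nat.zero_le _) (Finset.mem_univ (D.tw θ g)))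
      rw [fdeg_tw, mult_tw, mul_assoc, Units.mul_inv, mul_one]
      exact Nat.one_le_iff_ne_zero.2 (Nat.mul_pos (fdeg_pos D θ) hpos).ne'
    have hdeg := deg_eq D ζ
    rw [← hddef, ← Finset.sum_sdiff (Finset.subset_univ T)] at hdeg
    have h1 : T.card ≤ ∑ l ∈ T, nP D ζ l := by simpa using Finset.card_nsmul_le_sum T (fun l => nP D ζ l) 1 hle
    intro k
    by_cases hk : k ∈ T
    · by_contra hc
      have h2 : ∑ _l ∈ T, 1 < ∑ l ∈ T, nP D ζ l := Finset.sum_lt_sum hle ⟨k, hk, by omega⟩
      rw [Finset.sum_const, smul_eq_mul, mul_one] at h2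
      omega
    · have := Finset.single_le_sum (f := fun l => nP D ζ l) (fun _ _ => Nat.zero_le _)
        (Finset.mem_sdiff.2 ⟨Finset.mem_univ k, hk⟩)
      omega
  have hnorm : normC D ζ = d := by
    rw [hddef, deg_eq' D, normC]
    refine Finset.sum_congr rfl fun θ' _ => ?_
    rw [Finset.mul_sum]
    refine Finset.sum_congr rfl fun k _ => ?_
    have h := (Finset.single_le_sum (f := fun t => fdeg D t * mult D t ζ k) (fun _ _ => Nat.zero_le _)
      (Finset.mem_univ θ')).trans (h01 k)
    rcases Nat.eq_zero_or_pos (mult D θ' ζ k) with h0 | h0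
    · rw [h0, mul_zero, sq, mul_zero]
    · have hprod : fdeg D θ' * mult D θ' ζ k = 1 := le_antisymm h (Nat.mul_pos (fdeg_pos D θ') h0)
      rw [hprod, Nat.eq_one_of_mul_eq_one_left hprod, one_pow]
  obtain ⟨K⟩ := exists_hblk (D := D) hd hq (θone D) (fdeg_θone D) (Finset.eq_singleton_iff_unique_mem.2
    ⟨D.self_mem_orb _, fun θ' hθ' => eq_θone_of_mem_orb D hθ'⟩)
  obtain ⟨a, ha, hexp, ha1, e1, e2, -, hmv⟩ := H.constituents
  set ι := DegreeTools.oneChar G
  set s := Finset.univ.erase ι with hs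
  rw [← Finset.add_sum_erase _ _ (Finset.mem_univ ι), ha1, one_mul, DegreeTools.deg_oneChar, ← hs, ← hddef] at e1
  rw [← Finset.add_sum_erase _ _ (Finset.mem_univ ι), ha1, one_mul, mult_oneChar, ← hs, hnorm] at e2
  have hall : ∀ φ ∈ s, a φ ≠ 0 → ∑ k, mult D (θone D) φ k = charDegree (φ : G → ℂ) := by
    have hle : ∀ φ ∈ s, (p + 1) * (a φ * mult D (θone D) φ 0) ≤ 2 * (a φ * charDegree (φ : G → ℂ)) := fun φ hφ => by
      rcases Nat.eq_zero_or_pos (a φ) with h0 | h0
      · simp [h0]
      have := Nat.mul_le_mul_left (a φ) (two_deg_bound hd K (hmv φ (Finset.ne_of_mem_erase hφ) h0.ne')).1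
      linarith
    have heq : ∑ φ ∈ s, (p + 1) * (a φ * mult D (θone D) φ 0) = ∑ φ ∈ s, 2 * (a φ * charDegree (φ : G → ℂ)) := by
      rw [← Finset.mul_sum, ← Finset.mul_sum]
      obtain ⟨c, hc⟩ : ∃ c, d = c + 1 := ⟨d - 1, by omega⟩
      have h2 : ∑ φ ∈ s, a φ * mult D (θone D) φ 0 = c := by omega
      have h3 : ∑ φ ∈ s, a φ * charDegree (φ : G → ℂ) = c * c + 2 * c := by
        rw [hc, show (c + 1) * (c + 1) = 1 + (c * c + 2 * c) by ring] at e1
        omega
      rw [h2, h3, ← hd, hc]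
      ring
    intro φ hφ h0
    refine (two_deg_bound hd K (hmv φ (Finset.ne_of_mem_erase hφ) h0)).2 ?_
    have := (Finset.sum_eq_sum_iff_of_le hle).1 heq φ hφ
    exact Nat.eq_of_mul_eq_mul_left (Nat.pos_of_ne_zero h0) (by linarith)
  have hker : ∀ φ, a φ ≠ 0 → ∀ v : D.K0, (φ : G → ℂ) (v : G) = (φ : G → ℂ) 1 := by
    intro φ h0 v
    by_cases hι : φ = ι
    · subst hι; rfl
    have hT := hall φ (Finset.mem_erase.2 ⟨hι, Finset.mem_univ _⟩) h0
    have hdeg := deg_eq' D φ
    rw [← Finset.add_sum_erase _ _ (Finset.mem_univ (θone D)), fdeg_θone, one_mul, hT] at hdeg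
    have hz : ∑ θ' ∈ Finset.univ.erase (θone D), fdeg D θ' * ∑ k, mult D θ' φ k = 0 := by omega
    have h := D.apply_mk φ 0 v
    rw [D.el_zero, Finset.sum_eq_single (θone D) (fun θ' _ hne => by
        have h1 := Finset.sum_eq_zero_iff.1 hz θ' (Finset.mem_erase.2 ⟨hne, Finset.mem_univ _⟩)
        have h2 : ∑ k, mult D θ' φ k = 0 := (Nat.mul_eq_zero.1 h1).resolve_left (fdeg_pos D θ').ne'
        rw [sec_eq, Finset.sum_eq_zero fun k _ => by
          rw [Finset.sum_eq_zero_iff.1 h2 k (Finset.mem_univ _), Nat.cast_zero, zero_mul], zero_mul])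
      (fun h => absurd (Finset.mem_univ _) h), θone_apply, mul_one, sec_eq] at h
    rw [h, irr_one_eq, ← hT, Nat.cast_sum]
    simp only [mul_zero, AddChar.map_zero_eq_one, mul_one]
  intro v hv
  refine DegreeTools.mem_center_of_norm_eq ζ H.faithful v ?_
  have h : (ζ : G → ℂ) v * conj ((ζ : G → ℂ) v) = (ζ : G → ℂ) 1 * conj ((ζ : G → ℂ) 1) := by
    rw [hexp, hexp 1]
    refine Finset.sum_congr rfl fun φ _ => ?_
    rcases Nat.eq_zero_or_pos (a φ) with h0 | h0
    · simp [h0]
    · rw [hker φ h0.ne' ⟨v, hv⟩]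
  rw [Complex.mul_conj', Complex.mul_conj', irr_one_eq, Complex.norm_natCast] at h
  have h' : ‖(ζ : G → ℂ) v‖ ^ 2 = (charDegree (ζ : G → ℂ) : ℝ) ^ 2 := by exact_mod_cast h
  exact (pow_left_inj₀ (norm_nonneg _) (Nat.cast_nonneg _) two_ne_zero).1 h'

end CfsgLib.Char.DegHalf
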