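import Cfsg.Agent.Lib.Char.DegHalf.Values

/-!
# A faithful character of degree `(p - 1) / 2`: the order of the group
-/

set_option autoImplicit false

open scoped ComplexConjugate Classical

namespace CfsgLib.Char.DegHalf

open Cfsg CfsgLib CfsgLib.Blocks CfsgLib.Blocks.DefectOne CfsgLib.CharDeep CfsgLib.CharDeep.ExactP

universe u

variable {G : Type u} [Group G] [Fintype G] {p : ℕ} [hp : Fact p.Prime] {P : Sylow p G} {D : Frame P}
  {θ : IrrCharacter D.K0} {d : ℕ}

namespace Pack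

variable (W : Pack D θ d)

/-- The sum of the squares of the absolute values. -/
def same : G → ℂ := fun g => pr W.z W.z g + pr W.z' W.z' g

/-- The sum of the mixed products. -/
def mixed : G → ℂ := fun g => pr W.z W.z' g + pr W.z' W.z g

theorem sum_pr (φ χ : IrrCharacter G) :
    ∑ g, pr φ χ g = (Nat.card G : ℂ) * classInner (φ : G → ℂ) (χ : G → ℂ) := by
  rw [Cfsg.classInner, ← mul_assoc, mul_inv_cancel₀ Char.card_ne_zero, one_mul]
  rfl

theorem sum_same : ∑ g, W.same g = 2 * (Nat.card G : ℂ) := by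
  simp only [same]
  rw [Finset.sum_add_distrib, sum_pr, sum_pr, Char.classInner_irr_self W.z.2, Char.classInner_irr_self W.z'.2]
  ring

theorem sum_mixed : ∑ g, W.mixed g = 0 := by
  simp only [mixed]
  rw [Finset.sum_add_distrib, sum_pr, sum_pr, Char.classInner_irr_ne W.z.2 W.z'.2 (fun e => W.ne (Subtype.ext e)),
    Char.classInner_irr_ne W.z'.2 W.z.2 (fun e => W.ne (Subtype.ext e).symm)]
  ring

theorem conj_mixed (g : G) : conj (W.mixed g) = W.mixed g := by
  simp only [mixed, pr, map_add, map_mul, Complex.conj_conj]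
  ring

theorem sum_same_mul_mixed : ∑ g, W.same g * W.mixed g = 0 := by
  have S := W.shape2
  have S' := W.swap.shape2
  have hsame : ∀ φ : IrrCharacter G, classInner W.same (φ : G → ℂ) ≠ 0 → φ ∈ W.plus ∨ (φ ∈ W.Q.Y ∧ Even d) := by
    intro φ h
    rw [show W.same = pr W.z W.z + pr W.z' W.z' from rfl, Char.classInner_add_left] at h
    by_cases h1 : classInner (pr W.z W.z) (φ : G → ℂ) = 0
    · rw [h1, zero_add] at h
      exact S'.supp_same φ h
    · exact S.supp_same φ h1
  have hmix : ∀ φ : IrrCharacter G, classInner W.mixed (φ : G → ℂ) ≠ 0 → φ ∈ W.minus ∨ (φ ∈ W.Q.Y ∧ Odd d) := by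
    intro φ h
    rw [show W.mixed = pr W.z W.z' + pr W.z' W.z from rfl, Char.classInner_add_left] at h
    by_cases h1 : classInner (pr W.z W.z') (φ : G → ℂ) = 0
    · rw [h1, zero_add] at h
      exact S'.supp_mixed φ h
    · exact S.supp_mixed φ h1
  obtain ⟨c, hc, hexp⟩ := Char.IsCharacter.exists_multiplicity
    (Char.IsCharacter.add (isCharacter_pr W.z W.z') (isCharacter_pr W.z' W.z))
  have h1 : ∀ g, W.same g * W.mixed g = ∑ φ, (c φ : ℂ) * (W.same g * conj ((φ : G → ℂ) g)) := fun g => by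
    rw [← W.conj_mixed g, show W.mixed g = (pr W.z W.z' + pr W.z' W.z) g from rfl, hexp, map_sum, Finset.mul_sum]
    exact Finset.sum_congr rfl fun φ _ => by rw [map_mul, map_natCast]; ring
  rw [Finset.sum_congr rfl fun g _ => h1 g, Finset.sum_comm]
  refine Finset.sum_eq_zero fun φ _ => ?_
  rw [← Finset.mul_sum, mul_eq_zero]
  by_cases h0 : c φ = 0
  · exact Or.inl (by rw [h0, Nat.cast_zero])
  refine Or.inr ?_
  by_contra hne
  have hm := hmix φ (by
    rw [show W.mixed = pr W.z W.z' + pr W.z' W.z from rfl, hc]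
    exact Nat.cast_ne_zero.2 h0)
  have hs := hsame φ fun e => hne (by
    rw [Cfsg.classInner, inv_mul_eq_iff_eq_mul₀ Char.card_ne_zero, mul_zero] at e
    exact e)
  rcases hs with hs | ⟨hY, he⟩ <;> rcases hm with hm | ⟨hY', ho⟩
  · have := (W.mem_plus.1 hs).2
    rw [(W.mem_minus.1 hm).2] at this
    omega
  · exact W.plus_disjoint hY' hs
  · exact W.minus_disjoint hY hm
  · exact Nat.not_even_iff_odd.2 ho he

/-- The two sums at the singular elements. -/
theorem at_sing {g : G} (hg : p ∣ orderOf g) : W.same g = (d : ℂ) + 1 ∧ W.mixed g = -(d : ℂ) := by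
  obtain ⟨u, a, v, ha, hu⟩ := D.exists_conj_el hg
  have hpr : ∀ φ χ : IrrCharacter G, pr φ χ g = pr φ χ (D.el a v : G) := fun φ χ => by
    simp only [pr]
    rw [← hu, irr_conj_apply, irr_conj_apply]
  have hov := W.B.ov
  have hov' := W.B'.ov
  have hone := W.B.theta_one
  have hcol := W.K.col (Units.mk0 a ha) (Units.mk0 a ha)
  rw [W.KY, Finset.sum_pair W.ne, if_pos (by simp), Units.val_mk0, over_sec hone hov,
    over_sec hone hov'] at hcol
  have hθ := conj_linear_mul hone v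
  have hsum := W.sum_sing a ha v
  have hpd : (p : ℂ) = 2 * (d : ℂ) + 1 := by exact_mod_cast W.B.hd.symm
  have hs : W.same g = (d : ℂ) + 1 := by
    show pr W.z W.z g + pr W.z' W.z' g = _
    rw [hpr, hpr]
    simp only [pr, D.coe_el, hov _ v, hov' _ v, map_mul]
    linear_combination ((θ : D.K0 → ℂ) v * conj ((θ : D.K0 → ℂ) v)) * hcol + ((p : ℂ) - d) * hθ + hpd
  refine ⟨hs, ?_⟩
  have hsq := congrArg (fun x : ℂ => x * conj x) hsum
  simp only [map_add, map_neg, neg_mul_neg, hθ] at hsq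
  rw [show W.mixed g = (((W.z : G → ℂ) (D.el a v : G) + (W.z' : G → ℂ) (D.el a v : G)) *
      (conj ((W.z : G → ℂ) (D.el a v : G)) + conj ((W.z' : G → ℂ) (D.el a v : G)))) - W.same g by
    simp only [mixed, same]; rw [hpr, hpr, hpr, hpr]; simp only [pr]; ring, hsq, hs]
  ring

theorem at_reg {g : G} (hg : ¬ p ∣ orderOf g) :
    W.same g = 2 * ((‖(W.z : G → ℂ) g‖ ^ 2 : ℝ) : ℂ) ∧ W.mixed g = 2 * ((‖(W.z : G → ℂ) g‖ ^ 2 : ℝ) : ℂ) := by
  simp only [same, mixed, pr, ← W.agree g hg, Complex.mul_conj', Complex.ofReal_pow]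
  constructor <;> ring

include W in
set_option maxHeartbeats 800000 in
/-- The order of the group is bounded by the centre. -/
theorem card_le : Nat.card G ≤ 2 * p * (d * (d + 1)) * Nat.card (Subgroup.center G) := by
  set R := Finset.univ.filter fun g : G => ¬ p ∣ orderOf g with hR
  set N := (Finset.univ.filter fun g : G => ¬ ¬ p ∣ orderOf g).card with hN
  set w : G → ℝ := fun g => ‖(W.z : G → ℂ) g‖ ^ 2 with hw
  set U := ∑ g ∈ R, w g with hU
  set V := ∑ g ∈ R, w g ^ 2 with hV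
  have key : ∀ (F : G → ℂ) (f : G → ℂ) (c : ℂ), (∀ g, ¬ p ∣ orderOf g → F g = f g) →
      (∀ g, p ∣ orderOf g → F g = c) → ∑ g, F g = ∑ g ∈ R, f g + (N : ℂ) * c := fun F f c h1 h2 => by
    rw [← Finset.sum_filter_add_sum_filter_not Finset.univ (fun g : G => ¬ p ∣ orderOf g), ← hR,
      Finset.sum_congr rfl fun g hg => h1 g (Finset.mem_filter.1 hg).2,
      Finset.sum_congr rfl (g := fun _ => c) fun g hg => h2 g (not_not.1 (Finset.mem_filter.1 hg).2),
      Finset.sum_const, nsmul_eq_mul]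
  have e1 := key W.same (fun g => 2 * (w g : ℂ)) _ (fun g hg => (W.at_reg hg).1) fun g hg => (W.at_sing hg).1
  have e2 := key W.mixed (fun g => 2 * (w g : ℂ)) _ (fun g hg => (W.at_reg hg).2) fun g hg => (W.at_sing hg).2
  have e3 := key (fun g => W.same g * W.mixed g) (fun g => 4 * ((w g : ℂ) ^ 2)) _
    (fun g hg => by rw [(W.at_reg hg).1, (W.at_reg hg).2]; ring)
    (fun g hg => by rw [(W.at_sing hg).1, (W.at_sing hg).2])
  rw [W.sum_same, ← Finset.mul_sum] at e1
  rw [W.sum_mixed, ← Finset.mul_sum] at e2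
  rw [W.sum_same_mul_mixed, ← Finset.mul_sum] at e3
  have f1 : 2 * (Nat.card G : ℝ) = 2 * U + N * ((d : ℝ) + 1) := by
    rw [hU]; exact_mod_cast e1
  have f2 : (0 : ℝ) = 2 * U + N * (-(d : ℝ)) := by
    rw [hU]; exact_mod_cast e2
  have f3 : (0 : ℝ) = 4 * V + N * (((d : ℝ) + 1) * -(d : ℝ)) := by
    rw [hV]; exact_mod_cast e3
  have hbound : V - U ≤ (Nat.card (Subgroup.center G) : ℝ) * ((d : ℝ) ^ 4 - (d : ℝ) ^ 2) := by
    rw [hU, hV, ← Finset.sum_sub_distrib]
    have hd1 : (1 : ℝ) ≤ (d : ℝ) := by exact_mod_cast W.B.d_pos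
    have h4 : (0 : ℝ) ≤ (d : ℝ) ^ 4 - (d : ℝ) ^ 2 := sub_nonneg.2 (pow_le_pow_right₀ hd1 (by norm_num))
    refine le_trans (Finset.sum_le_sum fun g hg => (?_ : w g ^ 2 - w g ≤
      if g ∈ Subgroup.center G then (d : ℝ) ^ 4 - (d : ℝ) ^ 2 else 0)) ?_
    · have ha0 := norm_nonneg ((W.z : G → ℂ) g)
      split_ifs with hZ
      · have ha := DegreeTools.norm_apply_le W.z g
        rw [W.B.deg] at ha
        have h2 : w g ≤ (d : ℝ) ^ 2 := pow_le_pow_left₀ ha0 ha 2
        have h0 : 0 ≤ w g := by positivity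
        nlinarith [mul_nonneg (sub_nonneg.2 h2) h0, mul_nonneg (sub_nonneg.2 h2) (sub_nonneg.2 (one_le_pow₀ hd1 : (1 : ℝ) ≤ (d : ℝ) ^ 2))]
      · have ha := W.norm_le_one (Finset.mem_filter.1 hg).2 hZ
        have h2 : w g ≤ 1 := pow_le_one₀ ha0 ha
        have h0 : 0 ≤ w g := by positivity
        nlinarith
    · rw [← Finset.sum_filter, Finset.sum_const, nsmul_eq_mul]
      refine mul_le_mul_of_nonneg_right (Nat.cast_le.2 ?_) h4
      rw [Nat.card_eq_fintype_card, Fintype.card_subtype]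
      exact Finset.card_le_card fun g hg => Finset.mem_filter.2 ⟨Finset.mem_univ g, (Finset.mem_filter.1 hg).2⟩
  have hpd : (p : ℝ) = 2 * (d : ℝ) + 1 := by exact_mod_cast W.B.hd.symm
  have hd2 : (2 : ℝ) ≤ d := by exact_mod_cast W.B.two_le
  have hNp : (N : ℝ) * p = 2 * Nat.card G := by rw [hpd]; linarith
  have hmain : ((d : ℝ) * ((d : ℝ) - 1)) * Nat.card G ≤
      ((d : ℝ) * ((d : ℝ) - 1)) * (2 * p * (d * (d + 1)) * Nat.card (Subgroup.center G)) := by
    have h5 : 4 * (V - U) = N * ((d : ℝ) * ((d : ℝ) - 1)) := by linear_combination -f3 + 2 * f2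
    have h6 := mul_le_mul_of_nonneg_right (mul_le_mul_of_nonneg_left hbound (by norm_num : (0 : ℝ) ≤ 4))
      (Nat.cast_nonneg p : (0 : ℝ) ≤ p)
    rw [h5] at h6
    nlinarith
  exact_mod_cast le_of_mul_le_mul_left hmain (by nlinarith)

end Pack

/-- The index of the normalizer and the order of the group. -/
theorem Data.card_eq {ζ : IrrCharacter G} (B : Data D ζ θ d) :
    (nrm P).index = p + 1 ∧ Nat.card G = Nat.card (Subgroup.center G) * (p * d * (p + 1)) := by
  obtain ⟨W⟩ := exists_pack B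
  have hle := W.card_le
  have hN : Nat.card (nrm P) = Nat.card (Subgroup.center G) * (p * d) := by
    rw [D.card_nrm, D.card_cent, B.range, B.K0_eq]; ring
  have hidx := Subgroup.card_mul_index (nrm P)
  rw [hN] at hidx
  have hZ : 0 < Nat.card (Subgroup.center G) := Nat.card_pos
  have hp0 := hp.out.pos
  have hpos : 0 < Nat.card (Subgroup.center G) * (p * d) := by have := B.d_pos; positivity
  have hle' : (nrm P).index ≤ p + 1 := by
    refine Nat.le_of_mul_le_mul_left ?_ hpos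
    rw [hidx]
    refine hle.trans (le_of_eq ?_)
    rw [show p + 1 = 2 * (d + 1) by have := B.hd; omega]
    ring
  have hmod := card_sylow_modEq_one p G
  rw [P.card_eq_index_normalizer] at hmod
  have hne : (nrm P).index ≠ 1 := fun h => B.half.nn
    (Subgroup.normalizer_eq_top_iff.1 (Subgroup.index_eq_one.1 h))
  have h1 : (nrm P).index = p + 1 := by
    have h0 : (nrm P).index ≠ 0 := Subgroup.index_ne_zero_of_finite
    have hdvd : p ∣ (nrm P).index - 1 := (Nat.modEq_iff_dvd' (by omega)).1 hmod.symm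
    have := Nat.le_of_dvd (by omega) hdvd
    omega
  refine ⟨h1, ?_⟩
  rw [← hidx, h1]
  ring

end CfsgLib.Char.DegHalf
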