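import Cfsg.Agent.Lib.Char.DegHalf.Central

/-!
# A faithful character of degree `(p - 1) / 2`: central characters and the two blocks
-/

set_option autoImplicit false

open scoped ComplexConjugate Classical

namespace CfsgLib.Char.DegHalf

open Cfsg CfsgLib CfsgLib.Blocks CfsgLib.Blocks.DefectOne CfsgLib.CharDeep CfsgLib.CharDeep.ExactP

universe u

variable {G : Type u} [Group G] [Fintype G] {p : ℕ} [hp : Fact p.Prime] {P : Sylow p G} {D : Frame P}
  {ζ : IrrCharacter G} {θ : IrrCharacter D.K0} {d : ℕ}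

/-- The data. -/
structure Data (D : Frame P) (ζ : IrrCharacter G) (θ : IrrCharacter D.K0) (d : ℕ) : Prop where
  half : Half D ζ
  deg : charDegree (ζ : G → ℂ) = d
  hd : 2 * d + 1 = p
  two_le : 2 ≤ d
  range : Nat.card D.act.range = d
  K0_eq : D.K0 = Subgroup.center G
  theta_one : fdeg D θ = 1
  ov : ∀ (g : G) (v : D.K0), (ζ : G → ℂ) (g * (v : G)) = (θ : D.K0 → ℂ) v * (ζ : G → ℂ) g
  sum_x : ∑ a ∈ Finset.univ.erase (0 : ZMod p), (ζ : G → ℂ) (D.x ^ a.val) = -(d : ℂ)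

/-- A function transforming by `μ` under `K0`. -/
def Over (μ : IrrCharacter D.K0) (f : G → ℂ) : Prop :=
  ∀ (g : G) (v : D.K0), f (g * (v : G)) = (μ : D.K0 → ℂ) v * f g

theorem orb_eq (hK : D.K0 = Subgroup.center G) (μ : IrrCharacter D.K0) : D.orb μ = {μ} :=
  Finset.eq_singleton_iff_unique_mem.2 ⟨D.self_mem_orb μ, fun μ' hμ' => by
    obtain ⟨g, rfl⟩ := D.mem_orb.1 hμ'
    refine Subtype.ext (funext fun v => ?_)
    rw [D.tw_apply]
    refine congrArg (μ : D.K0 → ℂ) (Subtype.ext ?_)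
    rw [D.coe_conjK, Subgroup.mem_center_iff.1 (hK ▸ v.2) (g : G), mul_inv_cancel_right]⟩

theorem linear_apply_one {μ : IrrCharacter D.K0} (hμ : fdeg D μ = 1) : (μ : D.K0 → ℂ) 1 = 1 := by
  rw [irr_one_eq, show charDegree (μ : D.K0 → ℂ) = 1 from hμ, Nat.cast_one]

theorem norm_linear {μ : IrrCharacter D.K0} (hμ : fdeg D μ = 1) (v : D.K0) : ‖(μ : D.K0 → ℂ) v‖ = 1 := by
  obtain ⟨l, hl⟩ := Char.exists_hom_of_apply_one_eq_one (Char.isCharacter_irr μ) (linear_apply_one hμ)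
  obtain ⟨k, hk, hk1⟩ := (isOfFinOrder_of_finite v).exists_pow_eq_one
  rw [hl]
  exact Complex.norm_eq_one_of_pow_eq_one (n := k)
    (by rw [← Units.val_pow_eq_pow_val, ← map_pow, hk1, map_one, Units.val_one]) hk.ne'

theorem conj_linear_mul {μ : IrrCharacter D.K0} (hμ : fdeg D μ = 1) (v : D.K0) :
    (μ : D.K0 → ℂ) v * conj ((μ : D.K0 → ℂ) v) = 1 := by
  rw [Complex.mul_conj', norm_linear hμ]; norm_num

/-- The scalar of a central element in an irreducible character. -/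
theorem exists_scalar (hK : D.K0 = Subgroup.center G) (φ : IrrCharacter G) (v : D.K0) :
    ∃ c : ℂ, (∀ g, (φ : G → ℂ) (g * (v : G)) = c * (φ : G → ℂ) g) ∧ ‖c‖ = 1 := by
  obtain ⟨c, hc, -⟩ := CentralTrick.exists_scalar_center φ.2 (show (v : G) ∈ Subgroup.center G from hK ▸ v.2)
  refine ⟨c, hc, ?_⟩
  have hpow : ∀ n : ℕ, (φ : G → ℂ) ((v : G) ^ n) = c ^ n * (φ : G → ℂ) 1 := by
    intro n
    induction n with
    | zero => simp
    | succ n ih => rw [pow_succ, hc, ih, pow_succ]; ring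
  have h1 := hpow (orderOf (v : G))
  rw [pow_orderOf_eq_one] at h1
  exact Complex.norm_eq_one_of_pow_eq_one ((mul_eq_right₀ (irr_one_ne_zero φ)).1 h1.symm) (orderOf_pos _).ne'

theorem over_sec {μ : IrrCharacter D.K0} (hμ : fdeg D μ = 1) {φ : IrrCharacter G} (h : Over μ (φ : G → ℂ))
    (a : ZMod p) : D.sec μ φ a = (φ : G → ℂ) (D.x ^ a.val) := by
  rw [Frame.sec, Frame.comp, Cfsg.classInner, Finset.sum_congr rfl (g := fun _ => (φ : G → ℂ) (D.x ^ a.val))
      fun v _ => ?_, Finset.sum_const, Finset.card_univ, ← Nat.card_eq_fintype_card, nsmul_eq_mul, ← mul_assoc,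
    inv_mul_cancel₀ Char.card_ne_zero, one_mul]
  rw [D.coe_el, h, mul_right_comm, conj_linear_mul hμ, one_mul]

/-- A constituent of a function over `μ` is over `μ`. -/
theorem over_constituent (hK : D.K0 = Subgroup.center G) {μ : IrrCharacter D.K0}
    {F : G → ℂ} (hF : Over μ F) {φ : IrrCharacter G} (hne : classInner F (φ : G → ℂ) ≠ 0) :
    Over μ (φ : G → ℂ) := by
  intro g v
  obtain ⟨c, hc, hn⟩ := exists_scalar hK φ v
  have h1 : classInner F (φ : G → ℂ) = (μ : D.K0 → ℂ) v * conj c * classInner F (φ : G → ℂ) := by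
    rw [Cfsg.classInner]
    conv_lhs => rw [← Fintype.sum_equiv (Equiv.mulRight (v : G))
      (fun x => F (x * (v : G)) * conj ((φ : G → ℂ) (x * (v : G)))) _ fun x => rfl]
    rw [mul_left_comm ((μ : D.K0 → ℂ) v * conj c)]
    congr 1
    rw [Finset.mul_sum]
    exact Finset.sum_congr rfl fun x _ => by rw [hF, hc, map_mul]; ring
  have h2 : (μ : D.K0 → ℂ) v * conj c = 1 := (mul_eq_right₀ hne).1 h1.symm
  have h3 : c * conj c = 1 := by rw [Complex.mul_conj', hn]; norm_num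
  rw [hc, show c = (μ : D.K0 → ℂ) v from mul_right_cancel₀ (fun e => by rw [e, mul_zero] at h3; exact zero_ne_one h3)
    (h3.trans h2.symm)]

namespace HBlk

variable {μ : IrrCharacter D.K0} (K : HBlk D μ d)

theorem ov (hK : D.K0 = Subgroup.center G) (hμ : fdeg D μ = 1) (hd : 0 < d) {φ : IrrCharacter G}
    (hφ : φ ∈ K.X ∨ φ ∈ K.Y) : Over μ (φ : G → ℂ) := by
  intro g v
  obtain ⟨c, hc, -⟩ := exists_scalar hK φ v
  obtain ⟨a, ha, hne⟩ : ∃ a : ZMod p, a ≠ 0 ∧ D.sec μ φ a ≠ 0 := by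
    by_contra hcon
    push Not at hcon
    rcases hφ with hX | hY
    · have h := K.sec_X φ hX 1 one_ne_zero
      rw [hcon 1 one_ne_zero] at h
      have h' : (0 : ℤ) = K.s φ := by exact_mod_cast h
      rcases K.sgn_X φ hX with e | e <;> omega
    · have h := K.sum_sec_Y φ hY
      rw [Finset.sum_eq_zero fun k hk => hcon k (Finset.ne_of_mem_erase hk)] at h
      have h' : (0 : ℤ) = (d : ℤ) * K.A := by exact_mod_cast h
      rcases K.sgn_A with e | e <;> rw [e] at h' <;> omega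
  rw [hc]
  congr 1
  have h1 := K.val φ hφ a ha v
  rw [D.coe_el, hc, K.val_x hμ hφ ha, mul_comm c] at h1
  exact mul_left_cancel₀ hne h1

theorem value (hK : D.K0 = Subgroup.center G) (hμ : fdeg D μ = 1) (hd : 0 < d) {φ : IrrCharacter G}
    (hX : φ ∈ K.X) {a : ZMod p} (ha : a ≠ 0) : (φ : G → ℂ) (D.x ^ a.val) = (K.s φ : ℂ) := by
  rw [← over_sec hμ (K.ov hK hμ hd (Or.inl hX)) a, K.sec_X φ hX a ha]

theorem classify (hμ : fdeg D μ = 1) {φ : IrrCharacter G} (h : Over μ (φ : G → ℂ)) (hX : φ ∉ K.X) (hY : φ ∉ K.Y) :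
    p ∣ charDegree (φ : G → ℂ) := by
  refine ⟨nP D φ 0, Nat.cast_injective (R := ℂ) ?_⟩
  rw [Nat.cast_mul, ← sum_xpow, ← Finset.add_sum_erase _ _ (Finset.mem_univ (0 : ZMod p)), ZMod.val_zero, pow_zero,
    irr_one_eq, Finset.sum_eq_zero fun a ha => ?_, add_zero]
  rw [← over_sec hμ h a, K.out φ hX hY a (Finset.ne_of_mem_erase ha)]

end HBlk

theorem over_θone_iff (f : G → ℂ) : Over (θone D) f ↔ ∀ (g : G) (v : D.K0), f (g * (v : G)) = f g := by
  simp only [Over, θone_apply, one_mul]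

set_option maxHeartbeats 800000 in
theorem exists_data (D : Frame P) (ζ : IrrCharacter G) (H : Half D ζ) :
    ∃ θ, Data D ζ θ (charDegree (ζ : G → ℂ)) := by
  set d := charDegree (ζ : G → ℂ) with hddef
  have hd := H.deg
  have hK := H.K0_eq
  have hq := H.range
  rw [← hddef] at hd hq
  obtain ⟨θ, k₀, hk₀, hpos⟩ := exists_mult_pos D H.moves
  have hd0 : 0 < d := charDegree_pos ζ
  have hfd := mul_range_le_deg D hk₀ hpos
  rw [hq, ← hddef] at hfd
  have hf : fdeg D θ = 1 := by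
    have := Nat.le_of_mul_le_mul_right (hfd.trans (one_mul d).symm.le) hd0
    have := fdeg_pos D θ
    omega
  set T := (Finset.univ : Finset D.act.range).image fun u : D.act.range => k₀ * ((u : (ZMod p)ˣ) : ZMod p) with hT
  have hcard : T.card = d := by
    rw [hT, Finset.card_image_of_injective _ fun a b e => Subtype.ext (Units.ext (mul_left_cancel₀ hk₀ e)),
      Finset.card_univ, ← Nat.card_eq_fintype_card, hq]
  have h0T : (0 : ZMod p) ∉ T := fun h => by
    obtain ⟨u, -, hu⟩ := Finset.mem_image.1 h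
    exact mul_ne_zero hk₀ (Units.ne_zero _) hu
  have hle : ∀ l ∈ T, 1 ≤ mult D θ ζ l := by
    intro l hl
    obtain ⟨⟨u, g, rfl⟩, -, rfl⟩ := Finset.mem_image.1 hl
    have htw : D.tw θ g = θ := Finset.mem_singleton.1 (orb_eq hK θ ▸ D.mem_orb.2 ⟨g, rfl⟩)
    have h := mult_tw D θ ζ g (k₀ * (D.act g : ZMod p))
    rw [htw, mul_assoc, Units.mul_inv, mul_one] at h
    rw [h]
    exact hpos
  have hsumT : d ≤ ∑ l ∈ T, mult D θ ζ l := by
    rw [← hcard]
    simpa using Finset.card_nsmul_le_sum T (fun l => mult D θ ζ l) 1 hle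
  have hdeg := deg_eq' D ζ
  rw [← hddef, ← Finset.add_sum_erase _ _ (Finset.mem_univ θ), hf, one_mul] at hdeg
  have hS : ∑ k, mult D θ ζ k = d ∧ mult D θ ζ 0 = 0 := by
    have h1 : mult D θ ζ 0 + ∑ l ∈ T, mult D θ ζ l ≤ ∑ k, mult D θ ζ k := by
      rw [← Finset.sum_insert h0T]
      exact Finset.sum_le_sum_of_subset (Finset.subset_univ _)
    omega
  have hz : ∑ θ' ∈ Finset.univ.erase θ, fdeg D θ' * ∑ k, mult D θ' ζ k = 0 := by omega
  have hval : ∀ (a : ZMod p) (v : D.K0), (ζ : G → ℂ) (D.el a v : G) = D.sec θ ζ a * (θ : D.K0 → ℂ) v := by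
    intro a v
    rw [D.apply_mk ζ a v, Finset.sum_eq_single θ (fun θ' _ hne => by
        have h1 := Finset.sum_eq_zero_iff.1 hz θ' (Finset.mem_erase.2 ⟨hne, Finset.mem_univ _⟩)
        have h2 : ∑ k, mult D θ' ζ k = 0 := (Nat.mul_eq_zero.1 h1).resolve_left (fdeg_pos D θ').ne'
        rw [sec_eq, Finset.sum_eq_zero fun k _ => by
          rw [Finset.sum_eq_zero_iff.1 h2 k (Finset.mem_univ _), Nat.cast_zero, zero_mul], zero_mul])
      (fun h => absurd (Finset.mem_univ _) h)]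
  have hover : ∀ (g : G) (v : D.K0), (ζ : G → ℂ) (g * (v : G)) = (θ : D.K0 → ℂ) v * (ζ : G → ℂ) g := by
    intro g v
    obtain ⟨c, hc, -⟩ := exists_scalar hK ζ v
    rw [hc]
    congr 1
    have h := hval 0 v
    have h0 : D.sec θ ζ 0 = (d : ℂ) := by
      rw [sec_eq, ← hS.1, Nat.cast_sum]
      simp only [mul_zero, AddChar.map_zero_eq_one, mul_one]
    rw [D.el_zero, h0, ← one_mul (v : G), hc, irr_one_eq, ← hddef, mul_comm (d : ℂ)] at h
    exact mul_right_cancel₀ (Nat.cast_ne_zero.2 hd0.ne') h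
  refine ⟨θ, ⟨H, rfl, hd, ?_, hq, hK, hf, hover, ?_⟩⟩
  · have := H.five_le; omega
  · have h := sum_sec_eq θ ζ
    rw [hS.1, hS.2, Nat.cast_zero, mul_zero, Finset.sum_congr rfl fun a _ => over_sec hf hover a] at h
    linear_combination h

theorem Data.d_pos (B : Data D ζ θ d) : 0 < d := by have := B.two_le; omega

theorem Data.not_sgn (B : Data D ζ θ d) {s : ℤ} (hs : s = 1 ∨ s = -1) : ¬ (d : ℤ) ≡ s [ZMOD p] := by
  intro h
  obtain ⟨z, hz⟩ := Int.modEq_iff_dvd.1 h
  have hd := B.hd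
  have := B.two_le
  rcases lt_trichotomy z 0 with h1 | h1 | h1
  · have : (p : ℤ) * z ≤ p * (-1) := mul_le_mul_of_nonneg_left (by omega) (Nat.cast_nonneg _)
    omega
  · subst h1; omega
  · have : (p : ℤ) * 1 ≤ p * z := mul_le_mul_of_nonneg_left (by omega) (Nat.cast_nonneg _)
    omega

/-- A character of degree `d` over `μ` moving `P` is exceptional. -/
theorem Data.mem_Y (B : Data D ζ θ d) {μ : IrrCharacter D.K0} (hμ : fdeg D μ = 1) (K : HBlk D μ d)
    {φ : IrrCharacter G} (hov : Over μ (φ : G → ℂ)) (hdeg : charDegree (φ : G → ℂ) = d) : φ ∈ K.Y := by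
  by_contra hY
  by_cases hX : φ ∈ K.X
  · have h := K.mod_X φ hX
    rw [hdeg] at h
    exact B.not_sgn (K.sgn_X φ hX) h
  · have h := K.classify hμ hov hX hY
    rw [hdeg] at h
    have := Nat.le_of_dvd B.d_pos h
    have := B.hd
    omega

theorem Data.block_theta (B : Data D ζ θ d) (K : HBlk D θ d) : ζ ∈ K.Y ∧ K.A = -1 ∧ K.e = d := by
  have hY := B.mem_Y B.theta_one K B.ov B.deg
  have he : K.e = d := (K.deg_Y ζ hY).symm.trans B.deg
  refine ⟨hY, K.sgn_A.resolve_left fun hA => ?_, he⟩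
  have h := K.mod_Y
  rw [hA, he] at h
  obtain ⟨z, hz⟩ := Int.modEq_iff_dvd.1 h
  have hd := B.hd
  have := B.two_le
  rcases lt_trichotomy z 0 with h1 | h1 | h1
  · rcases eq_or_lt_of_le (show z ≤ -1 by omega) with h2 | h2
    · subst h2; omega
    · have : (p : ℤ) * z ≤ p * (-2) := mul_le_mul_of_nonneg_left (by omega) (Nat.cast_nonneg _)
      omega
  · subst h1; omega
  · have : (p : ℤ) * 1 ≤ p * z := mul_le_mul_of_nonneg_left (by omega) (Nat.cast_nonneg _)
    omega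

/-- The other exceptional character of the block of `ζ`. -/
theorem Data.other (B : Data D ζ θ d) (K : HBlk D θ d) {ζ' : IrrCharacter G} (hY : ζ' ∈ K.Y) :
    Data D ζ' θ d := by
  obtain ⟨hζ, hA, he⟩ := B.block_theta K
  have hdeg : charDegree (ζ' : G → ℂ) = d := (K.deg_Y ζ' hY).trans he
  have hov := K.ov B.K0_eq B.theta_one B.d_pos (Or.inr hY)
  have hsum : ∑ a ∈ Finset.univ.erase (0 : ZMod p), (ζ' : G → ℂ) (D.x ^ a.val) = -(d : ℂ) := by
    rw [Finset.sum_congr rfl fun a _ => (over_sec B.theta_one hov a).symm, K.sum_sec_Y ζ' hY, hA]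
    push_cast
    ring
  refine ⟨⟨B.half.five_le, by rw [hdeg]; exact B.hd, fun g hg => ?_, B.half.nn⟩, hdeg, B.hd, B.two_le, B.range,
    B.K0_eq, B.theta_one, hov, hsum⟩
  have hM := (Char.mem_charKer (Char.isCharacter_irr ζ')).2 hg
  have hreg : ∀ h : G, h ∈ Char.charKer (Char.isCharacter_irr ζ') → ¬ p ∣ orderOf h → h = 1 := fun h hh hr => by
    refine B.half.faithful h ?_
    rw [K.agree ζ hζ ζ' hY h hr, (Char.mem_charKer _).1 hh, irr_one_eq, irr_one_eq, hdeg, B.deg]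
  by_cases hr : p ∣ orderOf g
  swap
  · exact hreg g hM hr
  exfalso
  have hnd : ¬ p ∣ orderOf (g ^ p) := by
    obtain ⟨r, hr'⟩ := hr
    rw [orderOf_pow' _ hp.out.ne_zero, hr', Nat.gcd_eq_right (dvd_mul_right _ _), Nat.mul_div_cancel_left _ hp.out.pos]
    rintro ⟨r', rfl⟩
    exact D.hp2 (Dvd.dvd.trans ⟨r', by rw [hr']; ring⟩ (orderOf_dvd_natCard g))
  have hgp := hreg _ (pow_mem hM p) hnd
  obtain ⟨u, a, v, ha, hu⟩ := D.exists_conj_el hr
  have hv1 : (v : G) = 1 := by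
    have h1 : (D.el a v : G) ^ p = 1 := by rw [← hu, conj_pow, hgp]; group
    rw [D.coe_el, ((D.commute_x v.2).symm.pow_left a.val).mul_pow, ← pow_mul, mul_comm a.val, pow_mul,
      PrimeOrder.pow_prime_eq_one D.ord, one_pow, one_mul] at h1
    by_contra hne
    exact D.regular v.2 (dvd_of_eq (orderOf_eq_prime h1 hne).symm)
  have hmem : D.x ^ a.val ∈ Char.charKer (Char.isCharacter_irr ζ') := by
    have h := (Char.charKer_normal (Char.isCharacter_irr ζ')).conj_mem g hM u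
    rwa [hu, D.coe_el, hv1, mul_one] at h
  have hall : ∀ b : ZMod p, (ζ' : G → ℂ) (D.x ^ b.val) = (ζ' : G → ℂ) 1 := fun b => by
    refine (Char.mem_charKer (Char.isCharacter_irr ζ')).1 ?_
    have h := pow_mem hmem (a⁻¹ * b).val
    rwa [D.xpow_mul, ← mul_assoc, mul_inv_cancel₀ ha, one_mul] at h
  rw [Finset.sum_congr rfl fun b _ => hall b, Finset.sum_const, Finset.card_erase_of_mem (Finset.mem_univ _),
    Finset.card_univ, ZMod.card, nsmul_eq_mul, irr_one_eq, hdeg] at hsum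
  have h : (((p - 1) * d : ℕ) : ℤ) = -((d : ℕ) : ℤ) := by exact_mod_cast hsum
  have := B.d_pos
  omega

end CfsgLib.Char.DegHalf
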