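import Cfsg.Agent.Lib.Char.DegHalf.Count
import Cfsg.Agent.Lib.Char.FewSylow.Main
import Cfsg.Agent.Lib.Classical.Dickson.PSL

/-!
# A faithful character of degree `(p - 1) / 2`: the classification
-/

set_option autoImplicit false

open scoped Classical
open Subgroup
open scoped commutatorElement

namespace CfsgLib.Char.DegHalf

open Cfsg CfsgLib CfsgLib.Blocks CfsgLib.Blocks.DefectOne CfsgLib.CharDeep CfsgLib.CharDeep.ExactP

universe u

variable {p : ℕ} [hp : Fact p.Prime]

/-- The conclusions for a group with such a character. -/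
theorem exists_main {G : Type u} [Group G] [Fintype G] (h5 : 5 ≤ p) (P : Sylow p G) (hP : Nat.card P = p)
    (hnn : ¬ (P : Subgroup G).Normal) {χ : G → ℂ} (hχ : IsCharacter G χ) (hfaith : ∀ g : G, χ g = χ 1 → g = 1)
    (hdeg : 2 * charDegree χ + 1 = p) :
    ∃ D : Frame P, D.K0 = center G ∧ Nat.card D.act.range = charDegree χ ∧ (nrm P).index = p + 1 ∧
      Nat.card G = Nat.card (center G) * (p * charDegree χ * (p + 1)) := by
  obtain ⟨D⟩ := exists_frame P hP
  set ζ : IrrCharacter G := ⟨χ, isIrr_of_faithful D.hp2 P hnn hχ hfaith hdeg⟩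
  obtain ⟨θ, B⟩ := exists_data D ζ ⟨h5, hdeg, hfaith, hnn⟩
  obtain ⟨h1, h2⟩ := B.card_eq
  exact ⟨D, B.K0_eq, B.range, h1, h2⟩

section

variable {G : Type u} [Group G] [Fintype G] {P : Sylow p G} {χ : G → ℂ}

/-- The commutator subgroup covers the quotient by the centre. -/
theorem quotient_perfect (h5 : 5 ≤ p) (hnn : ¬ (P : Subgroup G).Normal) (hχ : IsCharacter G χ)
    (hfaith : ∀ g : G, χ g = χ 1 → g = 1) (hdeg : 2 * charDegree χ + 1 = p) (D : Frame P)
    (hrange : Nat.card D.act.range = charDegree χ)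
    (hG : Nat.card G = Nat.card (center G) * (p * charDegree χ * (p + 1))) :
    commutator (G ⧸ center G) = ⊤ := by
  set d := charDegree χ with hd
  set H := commutator G with hH
  have hxH : D.x ∈ H := by
    obtain ⟨n, hn⟩ : ∃ n : nrm P, D.act n ≠ 1 := by
      by_contra hall
      push Not at hall
      rw [show D.act.range = ⊥ from (eq_bot_iff_forall _).2 fun _ ⟨m, hm⟩ => hm ▸ hall m, card_bot] at hrange
      omega
    have hmem : ⁅(n : G), D.x⁆ ∈ H := commutator_mem_commutator (mem_top _) (mem_top _)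
    have he : ⁅(n : G), D.x⁆ = D.x ^ ((D.act n : ZMod p) - 1).val := by
      rw [commutatorElement_def, D.conj_x, mul_inv_eq_iff_eq_mul]
      conv_rhs => enter [2]; rw [← pow_one D.x, ← D.xpow_eq, Nat.cast_one]
      rw [D.xpow_add, sub_add_cancel]
    have hne : (D.act n : ZMod p) - 1 ≠ 0 := fun e => hn (Units.ext (sub_eq_zero.1 e))
    rw [he] at hmem
    have h := pow_mem hmem (((D.act n : ZMod p) - 1)⁻¹).val
    rwa [D.xpow_mul, mul_inv_cancel₀ hne, ← Nat.cast_one, D.xpow_eq, pow_one] at h
  have hPH : (P : Subgroup G) ≤ H := by rw [← D.zp]; exact zpowers_le.2 hxH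
  have hnH := not_le_normalizer_of_normal P hnn H hPH
  have hnnH : ¬ ((P.subtype hPH : Sylow p H) : Subgroup H).Normal := fun hn => hnH (by
    rw [Sylow.coe_subtype] at hn
    exact (normal_subgroupOf_iff_le_normalizer hPH).1 hn)
  have hPcard : Nat.card (P.subtype hPH : Sylow p H) = p := by
    show Nat.card ((P.subtype hPH : Sylow p H) : Subgroup H) = p
    rw [Sylow.coe_subtype, Nat.card_congr (subgroupOfEquivOfLe hPH).toEquiv]
    exact D.card_P
  obtain ⟨-, -, -, -, hHc⟩ := exists_main h5 (P.subtype hPH) hPcard hnnH (Char.IsCharacter.restrict hχ H)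
    (fun g e => SmallFaithful.faithful_restrict hfaith H g e) hdeg
  have hdH : charDegree (fun h : H => χ h) = d := rfl
  rw [hdH] at hHc
  have hirr := isIrr_restrict D.hp2 P hχ hfaith hdeg H hPH hnH
  have hZH : center H = (center G).subgroupOf H := by
    refine le_antisymm (fun c hc => ?_) fun c hc =>
      mem_center_iff.2 fun g => Subtype.ext (mem_center_iff.1 (mem_subgroupOf.1 hc) g)
    refine mem_subgroupOf.2 (DegreeTools.mem_center_of_norm_eq ⟨χ, isIrr_of_faithful D.hp2 P hnn hχ hfaith hdeg⟩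
      hfaith c ?_)
    obtain ⟨w, hw, -⟩ := CentralTrick.exists_scalar_center hirr hc
    have hpow : ∀ n : ℕ, χ ((c ^ n : H) : G) = w ^ n * χ 1 := by
      intro n
      induction n with
      | zero => simp
      | succ n ih =>
        have h := hw (c ^ n)
        rw [pow_succ, h, ih, pow_succ]
        ring
    have hne : χ 1 ≠ 0 := irr_one_ne_zero ⟨χ, isIrr_of_faithful D.hp2 P hnn hχ hfaith hdeg⟩
    have h1 := hpow (orderOf c)
    rw [pow_orderOf_eq_one, OneMemClass.coe_one] at h1
    have h2 := hpow 1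
    rw [pow_one, pow_one] at h2
    show ‖χ (c : G)‖ = (charDegree χ : ℝ)
    rw [h2, norm_mul, Complex.norm_eq_one_of_pow_eq_one ((mul_eq_right₀ hne).1 h1.symm) (orderOf_pos c).ne',
      one_mul, show χ 1 = (charDegree χ : ℂ) from irr_one_eq ⟨χ, isIrr_of_faithful D.hp2 P hnn hχ hfaith hdeg⟩,
      Complex.norm_natCast]
  set f : H →* G ⧸ center G := (QuotientGroup.mk' (center G)).comp H.subtype with hf
  have hker : f.ker = center H := by
    rw [hZH, hf, ← MonoidHom.comap_ker, QuotientGroup.ker_mk']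
    rfl
  have hcard : Nat.card f.range = p * d * (p + 1) := by
    have h := f.ker.card_mul_index
    rw [index_ker, hker, hHc] at h
    exact Nat.eq_of_mul_eq_mul_left Nat.card_pos h
  have htop : f.range = ⊤ := by
    refine eq_top_of_card_eq _ ?_
    rw [hcard]
    refine Nat.eq_of_mul_eq_mul_left (Nat.card_pos (α := center G)) ?_
    rw [← hG, card_eq_card_quotient_mul_card_subgroup (center G)]
    ring
  have hmap : Subgroup.map (QuotientGroup.mk' (center G)) H = commutator (G ⧸ center G) := by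
    rw [hH, _root_.commutator_def, map_commutator, map_top_of_surjective _ (QuotientGroup.mk'_surjective _),
      _root_.commutator_def]
  rw [← hmap, ← htop, hf, MonoidHom.range_comp, range_subtype]

/-- The quotient by the centre is `PSL(2, p)`. -/
theorem quotient_psl (h5 : 5 ≤ p) (hnn : ¬ (P : Subgroup G).Normal) (hχ : IsCharacter G χ) (hP : Nat.card P = p)
    (hfaith : ∀ g : G, χ g = χ 1 → g = 1) (hdeg : 2 * charDegree χ + 1 = p) :
    Nonempty ((G ⧸ center G) ≃* Matrix.ProjectiveSpecialLinearGroup (Fin 2) (ZMod p)) := by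
  obtain ⟨D, hK, hrange, hidx, hG⟩ := exists_main h5 P hP hnn hχ hfaith hdeg
  have hperf := quotient_perfect h5 hnn hχ hfaith hdeg D hrange hG
  set d := charDegree χ
  set π := QuotientGroup.mk' (center G) with hπ
  set Q := P.mapSurjective (f := π) (QuotientGroup.mk'_surjective _) with hQ
  have hQcard : Nat.card Q = p := by
    have hc : Nat.card (G ⧸ center G) = p * d * (p + 1) := by
      refine Nat.eq_of_mul_eq_mul_left (Nat.card_pos (α := center G)) ?_
      rw [← hG, card_eq_card_quotient_mul_card_subgroup (center G)]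
      ring
    rw [Q.card_eq_multiplicity, hc]
    have hd0 : d ≠ 0 := by omega
    rw [Nat.factorization_mul (by positivity) (by omega), Nat.factorization_mul hp.out.ne_zero hd0]
    simp only [Finsupp.coe_add, Pi.add_apply, Nat.Prime.factorization_self hp.out]
    rw [Nat.factorization_eq_zero_of_not_dvd (n := d) (fun h => by have := Nat.le_of_dvd (by omega) h; omega),
      Nat.factorization_eq_zero_of_not_dvd (n := p + 1) (fun h => by
        have := Nat.le_of_dvd one_pos ((Nat.dvd_add_right (dvd_refl p)).1 h); omega)]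
    simp
  obtain ⟨D'⟩ := exists_frame Q hQcard
  have hK' : D'.K0 = ⊥ := by
    refine (eq_bot_iff_forall _).2 fun v hv => ?_
    obtain ⟨g, rfl⟩ := QuotientGroup.mk'_surjective (center G) v
    have hcomm : π g * π D.x = π D.x * π g :=
      (mem_centralizer_iff.1 ((D'.mem_cent_iff (π g)).2 (D'.commute_x hv)) (π D.x) ⟨D.x, D.x_mem, rfl⟩).symm
    rw [← map_mul, ← map_mul, hπ, QuotientGroup.mk'_eq_mk'] at hcomm
    obtain ⟨z, hz, hzx⟩ := hcomm
    have hzc : ∀ a : G, Commute z a := fun a => (mem_center_iff.1 hz a).symm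
    have hconj : g⁻¹ * D.x * g = D.x * z := by
      rw [show g⁻¹ * D.x * g = g⁻¹ * (D.x * g) by group, ← hzx]; group
    have hz1 : z = 1 := by
      have h1 : (g⁻¹ * D.x * g) ^ p = 1 := by
        rw [show g⁻¹ * D.x * g = MulAut.conj g⁻¹ D.x by simp, ← map_pow, PrimeOrder.pow_prime_eq_one D.ord, map_one]
      rw [hconj, (hzc D.x).symm.mul_pow, PrimeOrder.pow_prime_eq_one D.ord, one_mul] at h1
      by_contra hne
      exact D.regular (hK ▸ hz : z ∈ D.K0) (dvd_of_eq (orderOf_eq_prime h1 hne).symm)
    rw [hz1, mul_one] at hconj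
    have hgx : Commute g D.x := by
      show g * D.x = D.x * g
      calc g * D.x = g * (g⁻¹ * D.x * g) := by rw [hconj]
        _ = D.x * g := by group
    obtain ⟨i, y, hy, rfl⟩ := D.decomp g hgx
    have hy1 : π y = 1 := (QuotientGroup.eq_one_iff y).2 (hK ▸ hy)
    rw [map_mul, hy1, mul_one, map_pow] at hv ⊢
    have hreg := D'.regular hv
    have hdvd : orderOf (π D.x ^ i) ∣ p := orderOf_dvd_of_pow_eq_one (by
      rw [← pow_mul, mul_comm, pow_mul, ← map_pow, PrimeOrder.pow_prime_eq_one D.ord, map_one, one_pow])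
    exact orderOf_eq_one_iff.1 (((Nat.dvd_prime hp.out).1 hdvd).resolve_right fun e => hreg (dvd_of_eq e.symm))
  have hle : (nrm P).map π ≤ nrm Q := by
    exact Subgroup.le_normalizer_map π
  have hdvd : (nrm Q).index ∣ p + 1 := by
    refine dvd_trans (index_dvd_of_le hle) (dvd_of_eq ?_)
    rw [index_map_eq _ (QuotientGroup.mk'_surjective _) ?_, hidx]
    rw [QuotientGroup.ker_mk']
    exact fun c hc => mem_normalizer_fintype fun v hv => by rwa [← mem_center_iff.1 hc v, mul_inv_cancel_right]
  obtain ⟨n, hn⟩ : ∃ n, (nrm Q).index = 1 + n * p := by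
    have hmod := card_sylow_modEq_one p (G ⧸ center G)
    rw [Q.card_eq_index_normalizer] at hmod
    have h0 : (nrm Q).index ≠ 0 := index_ne_zero_of_finite
    change (nrm Q).index ≡ 1 [MOD p] at hmod
    obtain ⟨n, hn⟩ := (Nat.modEq_iff_dvd' (Nat.one_le_iff_ne_zero.2 h0)).1 hmod.symm
    exact ⟨n, by rw [mul_comm]; omega⟩
  have hle1 : (nrm Q).index ≤ p + 1 := Nat.le_of_dvd (by omega) hdvd
  obtain ⟨q, t, s, S⟩ := FewSylow.exists_setting D' hK' hperf hn (FewSylow.notRep_of_few hn (by
    rw [Q.card_eq_index_normalizer]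
    calc 2 * (nrm Q).index ≤ 2 * (p + 1) := Nat.mul_le_mul_left _ hle1
      _ < (p + 1) * (p + 2) := by nlinarith))
  have hn1 : n = 1 := by
    have h1 := S.one_le_n
    by_contra hc
    have : 2 * p ≤ n * p := Nat.mul_le_mul_right _ (by omega)
    omega
  have hq : q = d := by
    have h := S.card_G
    rw [hn1] at h
    have hc := card_eq_card_quotient_mul_card_subgroup (center G)
    rw [hG, h, mul_comm (Nat.card (center G))] at hc
    have h2 := Nat.eq_of_mul_eq_mul_right (Nat.card_pos (α := center G)) hc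
    rw [show 1 + 1 * p = p + 1 by ring] at h2
    exact (Nat.eq_of_mul_eq_mul_left hp.out.pos (Nat.eq_of_mul_eq_mul_right (by omega) h2)).symm
  have ht : t = 2 := by
    refine Nat.eq_of_mul_eq_mul_left (show 0 < q by omega) ?_
    rw [S.hqt, hq]
    omega
  obtain ⟨F, i1, i2, hF, ⟨e⟩⟩ := S.psl ht hn1
  obtain ⟨e1⟩ := Classical.Dickson.psl_congr (RingEquiv.refl F)
  obtain ⟨e2⟩ := Classical.Dickson.psl_congr
    (FiniteField.ringEquivOfCardEq (K := F) (K' := ZMod p) (by rw [hF, ZMod.card]))
  exact ⟨e.trans (e1.symm.trans e2)⟩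

end

/-- A linear faithful character makes the group commutative. -/
theorem comm_of_deg_one {G : Type u} [Group G] [Finite G] {χ : G → ℂ} (hχ : IsCharacter G χ)
    (hfaith : ∀ g : G, χ g = χ 1 → g = 1) (h1 : χ 1 = 1) (a b : G) : a * b = b * a := by
  obtain ⟨l, hl⟩ := Char.exists_hom_of_apply_one_eq_one hχ h1
  have hinj : Function.Injective l := (injective_iff_map_eq_one l).2 fun g hg => hfaith g (by simp [hl, hg])
  exact hinj (by rw [map_mul, map_mul, mul_comm])

theorem main {G : Type u} [Group G] [Finite G] (hdiv : p ∣ Nat.card G) (hsq : ¬ p ^ 2 ∣ Nat.card G)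
    (hnn : ∀ H : Subgroup G, H.Normal → Nat.card H ≠ p) {χ : G → ℂ} (hχ : IsCharacter G χ)
    (hfaith : ∀ g : G, χ g = χ 1 → g = 1) (hdeg : 2 * charDegree χ + 1 = p) :
    Nonempty ((G ⧸ center G) ≃* Matrix.ProjectiveSpecialLinearGroup (Fin 2) (ZMod p)) := by
  have := Fintype.ofFinite G
  obtain ⟨P⟩ : Nonempty (Sylow p G) := inferInstance
  have hP : Nat.card P = p := by
    rw [P.card_eq_multiplicity]
    have h1 : (Nat.card G).factorization p ≠ 0 := fun h => by
      rw [Nat.factorization_eq_zero_iff] at h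
      rcases h with h | h | h
      · exact h hp.out
      · exact h hdiv
      · exact Nat.card_pos.ne' h
    have h2 : ¬ 2 ≤ (Nat.card G).factorization p := fun h => hsq
      ((hp.out.pow_dvd_iff_le_factorization Nat.card_pos.ne').2 h)
    rw [show (Nat.card G).factorization p = 1 by omega, pow_one]
  have hnP : ¬ (P : Subgroup G).Normal := fun h => hnn _ h hP
  by_cases h5 : 5 ≤ p
  · exact quotient_psl h5 hnP hχ hP hfaith hdeg
  · exfalso
    have := hp.out.two_le
    have hd1 : charDegree χ = 1 := by omega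
    refine hnP ⟨fun n hn g => ?_⟩
    have h1 : χ 1 = 1 := by
      obtain ⟨k, ρ, rfl⟩ := hχ
      simp only [charDegree, Representation.char_one, Module.finrank_fin_fun, Complex.natCast_re,
        Nat.floor_natCast] at hd1
      simp [Representation.char_one, hd1]
    rwa [comm_of_deg_one hχ hfaith h1 g n, mul_inv_cancel_right]

end CfsgLib.Char.DegHalf
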