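import Cfsg.Agent.Lib.Char.DegHalf.Theta
import Cfsg.Agent.Lib.Recognition.SelfCentThree.Chars

/-!
# A faithful character of degree `(p - 1) / 2`: the values at the regular elements

Counting the factorisations of a regular element into two elements of order `p` shows that the
character has absolute value at most one outside the centre.
-/

set_option autoImplicit false

open scoped ComplexConjugate Classical

namespace CfsgLib.Char.DegHalf

open Cfsg CfsgLib CfsgLib.Blocks CfsgLib.Blocks.DefectOne CfsgLib.CharDeep CfsgLib.CharDeep.ExactP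

universe u

variable {G : Type u} [Group G] [Fintype G] {p : ℕ} [hp : Fact p.Prime] {P : Sylow p G} {D : Frame P}
  {θ : IrrCharacter D.K0} {d : ℕ}

/-- The sum over a block. -/
noncomputable def blockSum {μ : IrrCharacter D.K0} (K : HBlk D μ d) (w : ℤ) (η : IrrCharacter G) (g : G) : ℂ :=
  ∑ φ ∈ K.X, (φ : G → ℂ) g / (charDegree (φ : G → ℂ) : ℂ) + (w : ℂ) * (η : G → ℂ) g / (K.e : ℂ)

/-- The sum over a block counts the factorisations weighted by `μ`. -/
theorem blockSum_eq (hK : D.K0 = Subgroup.center G) (hd : 0 < d) {μ : IrrCharacter D.K0} (hμ : fdeg D μ = 1)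
    (K : HBlk D μ d) {η : IrrCharacter G} (hη : η ∈ K.Y) {g : G} (hg : ¬ p ∣ orderOf g) (a c : (ZMod p)ˣ) (w : ℤ)
    (hw : ∑ ξ ∈ K.Y, D.sec μ ξ a * conj (D.sec μ ξ c) = (w : ℂ)) :
    conj (blockSum K w η g) * ((Nat.card D.K0 : ℂ) * (Nat.card G : ℂ)) =
      ∑ v : D.K0, (μ : D.K0 → ℂ) v *
        ((Nat.card (Subgroup.centralizer ({D.x ^ (a : ZMod p).val} : Set G)) : ℂ) *
          (Nat.card (Subgroup.centralizer ({(D.x ^ (c : ZMod p).val)⁻¹} : Set G)) : ℂ) *
          (Nat.card {u : G // IsConj u (D.x ^ (a : ZMod p).val) ∧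
            IsConj (u⁻¹ * (g * (v : G))) (D.x ^ (c : ZMod p).val)⁻¹} : ℂ)) := by
  simp only [Recognition.SelfCentThree.card_pairs]
  simp only [Finset.mul_sum]
  rw [Finset.sum_comm, ← Finset.sum_subset (Finset.subset_univ (K.X ∪ K.Y)) fun φ _ hφ => ?_]
  · have hterm : ∀ φ ∈ K.X ∪ K.Y, ∑ v : D.K0, (μ : D.K0 → ℂ) v * ((Nat.card G : ℂ) *
        ((φ : G → ℂ) (D.x ^ (a : ZMod p).val) * (φ : G → ℂ) (D.x ^ (c : ZMod p).val)⁻¹ *
          conj ((φ : G → ℂ) (g * (v : G))) / (φ : G → ℂ) 1))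
        = (D.sec μ φ a * conj (D.sec μ φ c) * (conj ((φ : G → ℂ) g) / (charDegree (φ : G → ℂ) : ℂ)))
          * ((Nat.card D.K0 : ℂ) * (Nat.card G : ℂ)) := fun φ hφ => by
      have hov := K.ov hK hμ hd (Finset.mem_union.1 hφ)
      rw [Finset.sum_congr rfl (g := fun _ : D.K0 => (Nat.card G : ℂ) *
          ((φ : G → ℂ) (D.x ^ (a : ZMod p).val) * conj ((φ : G → ℂ) (D.x ^ (c : ZMod p).val)) *
            conj ((φ : G → ℂ) g) / (φ : G → ℂ) 1)) fun v _ => ?_, Finset.sum_const, Finset.card_univ,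
        ← Nat.card_eq_fintype_card, nsmul_eq_mul, over_sec hμ hov, over_sec hμ hov, irr_one_eq]
      · ring
      · rw [hov, map_mul, ← conj_irr φ]
        rw [show (μ : D.K0 → ℂ) v * ((Nat.card G : ℂ) * ((φ : G → ℂ) (D.x ^ (a : ZMod p).val) *
            conj ((φ : G → ℂ) (D.x ^ (c : ZMod p).val)) * (conj ((μ : D.K0 → ℂ) v) * conj ((φ : G → ℂ) g)) / (φ : G → ℂ) 1))
          = ((μ : D.K0 → ℂ) v * conj ((μ : D.K0 → ℂ) v)) * ((Nat.card G : ℂ) * ((φ : G → ℂ) (D.x ^ (a : ZMod p).val) *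
            conj ((φ : G → ℂ) (D.x ^ (c : ZMod p).val)) * conj ((φ : G → ℂ) g) / (φ : G → ℂ) 1)) by ring,
          conj_linear_mul hμ, one_mul]
    rw [Finset.sum_congr rfl hterm, ← Finset.sum_mul, Finset.sum_union K.disj, blockSum, map_add, map_sum]
    congr 1
    congr 1
    · refine Finset.sum_congr rfl fun φ hφ => ?_
      rw [K.sec_X φ hφ _ (Units.ne_zero a), K.sec_X φ hφ _ (Units.ne_zero c), map_intCast, map_div₀, map_natCast]
      rcases K.sgn_X φ hφ with e | e <;> rw [e] <;> norm_num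
    · rw [map_div₀, map_mul, map_intCast, map_natCast, ← hw, mul_div_assoc, Finset.sum_mul]
      exact Finset.sum_congr rfl fun φ hφ => by rw [K.deg_Y φ hφ, K.agree φ hφ η hη g hg]
  · rw [Finset.mem_union, not_or] at hφ
    have h0 := K.out φ hφ.1 hφ.2 (c : ZMod p) (Units.ne_zero c)
    have hW : conj ((φ : G → ℂ) (D.x ^ (c : ZMod p).val)) *
        ∑ v : D.K0, (μ : D.K0 → ℂ) v * conj ((φ : G → ℂ) (g * (v : G))) = 0 := by
      rw [Frame.sec, Frame.comp, Cfsg.classInner, mul_eq_zero] at h0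
      have h1 := congrArg conj (h0.resolve_left (inv_ne_zero Char.card_ne_zero))
      rw [map_sum, map_zero] at h1
      rw [← mul_zero (conj ((φ : G → ℂ) g)), ← h1, Finset.mul_sum, Finset.mul_sum]
      refine Finset.sum_congr rfl fun v _ => ?_
      obtain ⟨s, hs, -⟩ := exists_scalar hK φ v
      rw [D.coe_el, hs, hs]
      simp only [map_mul, Complex.conj_conj]
      ring
    rw [Finset.sum_congr rfl (g := fun v : D.K0 => (Nat.card G : ℂ) * (φ : G → ℂ) (D.x ^ (a : ZMod p).val) /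
        (φ : G → ℂ) 1 * (conj ((φ : G → ℂ) (D.x ^ (c : ZMod p).val)) *
          ((μ : D.K0 → ℂ) v * conj ((φ : G → ℂ) (g * (v : G)))))) fun v _ => by rw [← conj_irr φ]; ring,
      ← Finset.mul_sum, ← Finset.mul_sum, hW, mul_zero]

namespace Pack

variable (W : Pack D θ d)

include W in
theorem exists_outside : ∃ r : (ZMod p)ˣ, r ∉ D.act.range := by
  by_contra h
  push Not at h
  have h1 := W.B.range
  rw [show D.act.range = ⊤ from eq_top_iff.2 fun r _ => h r, Subgroup.card_top,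
    Nat.card_eq_fintype_card (α := (ZMod p)ˣ), ZMod.card_units] at h1
  have := W.B.hd
  have := W.B.two_le
  omega

/-- The weighted count is at most the count. -/
theorem compare {η : IrrCharacter G} (hη : η ∈ W.Q.Y) {g : G} (hg : ¬ p ∣ orderOf g) {w : ℤ}
    (hw : w = (d : ℤ) + 1 ∨ w = -(d : ℤ)) :
    (blockSum W.Q w η g).im = 0 ∧ ‖blockSum W.K w W.z g‖ ≤ (blockSum W.Q w η g).re := by
  obtain ⟨c, hc⟩ : ∃ c : (ZMod p)ˣ, ∀ (μ : IrrCharacter D.K0) (K : HBlk D μ d),
      ∑ ξ ∈ K.Y, D.sec μ ξ ((1 : (ZMod p)ˣ) : ZMod p) * conj (D.sec μ ξ c) = (w : ℂ) := by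
    have hpd : (p : ℂ) = 2 * (d : ℂ) + 1 := by exact_mod_cast W.B.hd.symm
    rcases hw with rfl | rfl
    · refine ⟨1, fun μ K => ?_⟩
      rw [K.col, if_pos (by simp [one_mem]), hpd]
      push_cast
      ring
    · obtain ⟨r, hr⟩ := W.exists_outside
      refine ⟨r, fun μ K => ?_⟩
      rw [K.col, if_neg (by simpa using hr), zero_sub]
      push_cast
      ring
  have hY : W.z ∈ W.K.Y := (W.B.block_theta W.K).1
  set C : ℂ := (Nat.card D.K0 : ℂ) * (Nat.card G : ℂ) with hC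
  set N : D.K0 → ℕ := fun v => Nat.card (Subgroup.centralizer ({D.x ^ ((1 : (ZMod p)ˣ) : ZMod p).val} : Set G)) *
    Nat.card (Subgroup.centralizer ({(D.x ^ (c : ZMod p).val)⁻¹} : Set G)) *
    Nat.card {u : G // IsConj u (D.x ^ ((1 : (ZMod p)ˣ) : ZMod p).val) ∧
      IsConj (u⁻¹ * (g * (v : G))) (D.x ^ (c : ZMod p).val)⁻¹} with hN
  have e1 := blockSum_eq W.B.K0_eq W.B.d_pos (fdeg_θone D) W.Q hη hg 1 c w (hc _ W.Q)
  have e2 := blockSum_eq W.B.K0_eq W.B.d_pos W.B.theta_one W.K hY hg 1 c w (hc _ W.K)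
  have e1' : conj (blockSum W.Q w η g) * C = ((∑ v, N v : ℕ) : ℂ) := by
    rw [e1, Nat.cast_sum]
    exact Finset.sum_congr rfl fun v _ => by simp only [θone_apply, one_mul, hN, Nat.cast_mul]
  have e2' : conj (blockSum W.K w W.z g) * C = ∑ v, (θ : D.K0 → ℂ) v * (N v : ℂ) := by
    rw [e2]
    exact Finset.sum_congr rfl fun v _ => by simp only [hN, Nat.cast_mul]
  set T : ℝ := (Nat.card D.K0 : ℝ) * (Nat.card G : ℝ) with hT
  have hCr : C = (T : ℂ) := by rw [hC, hT]; push_cast; rfl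
  have hT0 : 0 < T := by
    have := Nat.card_pos (α := D.K0)
    have := Nat.card_pos (α := G)
    positivity
  have hQ : blockSum W.Q w η g = ((((∑ v, N v : ℕ) : ℝ) / T : ℝ) : ℂ) := by
    have h1 := congrArg conj e1'
    rw [map_mul, Complex.conj_conj, hCr, Complex.conj_ofReal, map_natCast] at h1
    rw [Complex.ofReal_div, eq_div_iff (Complex.ofReal_ne_zero.2 hT0.ne'), h1]
    push_cast
    rfl
  refine ⟨by rw [hQ]; exact Complex.ofReal_im _, ?_⟩
  rw [hQ, Complex.ofReal_re, le_div_iff₀ hT0]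
  have h2 := congrArg (fun x : ℂ => ‖x‖) e2'
  simp only [norm_mul, Complex.norm_conj, hCr, Complex.norm_real, Real.norm_eq_abs, abs_of_pos hT0] at h2
  rw [h2, Nat.cast_sum]
  refine (norm_sum_le _ _).trans (Finset.sum_le_sum fun v _ => ?_)
  rw [norm_mul, norm_linear W.B.theta_one, one_mul, Complex.norm_natCast]

end Pack

end CfsgLib.Char.DegHalf
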