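import Cfsg.Agent.Lib.Char.DegHalf.Split

/-!
# A faithful character of degree `(p - 1) / 2`: the principal block

The nonexceptional characters have degrees `p + 1` and `p - 1`; the former are the constituents of
`ζ * conj ζ`, the latter those of `ζ * conj ζ'`.
-/

set_option autoImplicit false

open scoped ComplexConjugate Classical

namespace CfsgLib.Char.DegHalf

open Cfsg CfsgLib CfsgLib.Blocks CfsgLib.Blocks.DefectOne CfsgLib.CharDeep CfsgLib.CharDeep.ExactP

universe u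

variable {G : Type u} [Group G] [Fintype G] {p : ℕ} [hp : Fact p.Prime] {P : Sylow p G} {D : Frame P}
  {θ : IrrCharacter D.K0} {d : ℕ}

/-- The two blocks. -/
structure Pack (D : Frame P) (θ : IrrCharacter D.K0) (d : ℕ) where
  z : IrrCharacter G
  z' : IrrCharacter G
  K : HBlk D θ d
  Q : HBlk D (θone D) d
  B : Data D z θ d
  B' : Data D z' θ d
  ne : z ≠ z'
  KY : K.Y = {z, z'}
  one_mem : DegreeTools.oneChar G ∈ Q.X
  one_sgn : Q.s (DegreeTools.oneChar G) = 1

/-- Exchanging the exceptional characters. -/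
def Pack.swap (W : Pack D θ d) : Pack D θ d where
  z := W.z'
  z' := W.z
  K := W.K
  Q := W.Q
  B := W.B'
  B' := W.B
  ne := W.ne.symm
  KY := by rw [W.KY, Finset.pair_comm]
  one_mem := W.one_mem
  one_sgn := W.one_sgn

theorem exists_pack {ζ : IrrCharacter G} (B : Data D ζ θ d) : Nonempty (Pack D θ d) := by
  obtain ⟨K⟩ := exists_hblk B.hd B.range θ B.theta_one (orb_eq B.K0_eq θ)
  obtain ⟨Q⟩ := exists_hblk B.hd B.range (θone D) (fdeg_θone D) (orb_eq B.K0_eq (θone D))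
  obtain ⟨hζ, -, -⟩ := B.block_theta K
  obtain ⟨ζ', hne⟩ : ∃ ζ', K.Y.erase ζ = {ζ'} :=
    Finset.card_eq_one.1 (by rw [Finset.card_erase_of_mem hζ, K.card_Y])
  have hmem : ζ' ∈ K.Y.erase ζ := hne ▸ Finset.mem_singleton_self ζ'
  have hY : K.Y = {ζ, ζ'} := by rw [← hne, Finset.insert_erase hζ]
  set ι := DegreeTools.oneChar G
  have hov : Over (θone D) (ι : G → ℂ) := (over_θone_iff _).2 fun g v => rfl
  have hnd : ¬ p ∣ charDegree (ι : G → ℂ) := by rw [DegreeTools.deg_oneChar]; exact hp.out.not_dvd_one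
  have hX : ι ∈ Q.X := by
    by_contra hX
    by_cases hY : ι ∈ Q.Y
    · have h := Q.deg_Y ι hY
      rw [DegreeTools.deg_oneChar] at h
      have hm := Q.mod_Y
      rw [← h] at hm
      refine B.not_sgn (s := -Q.A) (by rcases Q.sgn_A with e | e <;> rw [e] <;> omega) ?_
      have h2 := hm.mul_left (-Q.A)
      rw [Nat.cast_one, mul_one, ← mul_assoc] at h2
      have hsq : -Q.A * -Q.A = 1 := by rcases Q.sgn_A with e | e <;> rw [e] <;> norm_num
      rw [hsq, one_mul] at h2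
      exact h2.symm
    · exact hnd (Q.classify (fdeg_θone D) hov hX hY)
  have hs : Q.s ι = 1 := by
    have h := Q.value B.K0_eq (fdeg_θone D) B.d_pos hX (one_ne_zero (α := ZMod p))
    rw [DegreeTools.coe_oneChar] at h
    exact_mod_cast h.symm
  exact ⟨⟨ζ, ζ', K, Q, B, B.other K (Finset.mem_of_mem_erase hmem), (Finset.ne_of_mem_erase hmem).symm, hY,
    hX, hs⟩⟩

namespace Pack

variable (W : Pack D θ d)

theorem sum_sing (a : ZMod p) (ha : a ≠ 0) (v : D.K0) :
    (W.z : G → ℂ) (D.el a v : G) + (W.z' : G → ℂ) (D.el a v : G) = -(θ : D.K0 → ℂ) v := by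
  have h := W.K.sum_Y_sec a ha
  rw [W.KY, Finset.sum_pair W.ne, (W.B.block_theta W.K).2.1, over_sec W.B.theta_one W.B.ov,
    over_sec W.B.theta_one W.B'.ov] at h
  rw [D.coe_el, W.B.ov, W.B'.ov, ← mul_add, h]
  push_cast
  ring

include W in
theorem over_pr {φ χ : IrrCharacter G} (hφ : Over θ (φ : G → ℂ)) (hχ : Over θ (χ : G → ℂ)) :
    Over (θone D) (pr φ χ) := (over_θone_iff _).2 fun g v => by
  simp only [pr]
  rw [hφ, hχ, map_mul, mul_mul_mul_comm, conj_linear_mul W.B.theta_one, one_mul]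

theorem agree (g : G) (hg : ¬ p ∣ orderOf g) : (W.z : G → ℂ) g = (W.z' : G → ℂ) g :=
  W.K.agree _ (by rw [W.KY]; exact Finset.mem_insert_self _ _) _
    (by rw [W.KY]; exact Finset.mem_insert_of_mem (Finset.mem_singleton_self _)) g hg

theorem pr_one : pr W.z W.z 1 = ((d * d : ℕ) : ℂ) ∧ pr W.z W.z' 1 = ((d * d : ℕ) : ℂ) := by
  simp only [pr, irr_one_eq, W.B.deg, W.B'.deg, map_natCast]
  constructor <;> push_cast <;> ring

/-- The constituents of degree different from one. -/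
theorem deg_X {φ : IrrCharacter G} (hφ : φ ∈ W.Q.X) (hne : φ ≠ DegreeTools.oneChar G) :
    (W.Q.s φ = 1 → classInner (pr W.z W.z) (φ : G → ℂ) ≠ 0 ∧ p + 1 ≤ charDegree (φ : G → ℂ)) ∧
      (W.Q.s φ = -1 → classInner (pr W.z W.z') (φ : G → ℂ) ≠ 0 ∧ p - 1 ≤ charDegree (φ : G → ℂ)) := by
  obtain ⟨c, hc⟩ := Char.IsCharacter.classInner_nat (isCharacter_pr W.z W.z) (Char.isCharacter_irr φ)
  obtain ⟨c', hc'⟩ := Char.IsCharacter.classInner_nat (isCharacter_pr W.z W.z') (Char.isCharacter_irr φ)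
  have hF := inner_sing W.Q (F := fun g => pr W.z W.z g - pr W.z W.z' g) (Φ := (DegreeTools.oneChar G : G → ℂ))
    (fun g hg => by simp only [pr, ← W.agree g hg, sub_self])
    (Char.IsCharacter.isClassFunction (Char.isCharacter_irr _)) (fun a _ v => by rw [DegreeTools.coe_oneChar]; rfl) hφ
  rw [show (fun g => pr W.z W.z g - pr W.z W.z' g) = pr W.z W.z - pr W.z W.z' from rfl, Char.classInner_sub_left,
    Char.classInner_sub_left, hc, hc', classInner_pr_one, classInner_pr_one, Char.classInner_irr_self W.z.2,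
    Char.classInner_irr_ne W.z.2 W.z'.2 (fun e => W.ne (Subtype.ext e)), sub_zero, mul_one] at hF
  have hF' : (c : ℤ) - c' = W.Q.s φ := by exact_mod_cast hF
  have hmod := W.Q.mod_X φ hφ
  have hpos := charDegree_pos φ
  obtain ⟨z, hz⟩ := Int.modEq_iff_dvd.1 hmod.symm
  refine ⟨fun hs => ?_, fun hs => ?_⟩
  · rw [hs] at hz hF'
    have hc0 : classInner (pr W.z W.z) (φ : G → ℂ) ≠ 0 := by
      rw [hc]
      exact Nat.cast_ne_zero.2 (by omega)
    refine ⟨hc0, ?_⟩
    obtain ⟨u, hu, hmove⟩ := constituent_moves D.hp2 P W.B.half.nn W.z.2 W.B.half.faithful W.B.half.deg hne hc0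
    by_contra hlt
    have hx1 : charDegree (φ : G → ℂ) = 1 := by
      refine le_of_modEq (p := p) (L := 1) ?_ hpos (by omega)
      rw [hs] at hmod
      exact_mod_cast hmod
    have h1 : (φ : G → ℂ) D.x = (φ : G → ℂ) 1 := by
      have h := W.Q.value W.B.K0_eq (fdeg_θone D) W.B.d_pos hφ (one_ne_zero (α := ZMod p))
      rw [ZMod.val_one, pow_one, hs] at h
      rw [h, irr_one_eq, hx1]
      norm_num
    have hxm := (Char.mem_charKer (Char.isCharacter_irr φ)).2 h1
    refine hmove ((Char.mem_charKer (Char.isCharacter_irr φ)).1 ?_)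
    rw [← D.zp] at hu
    exact Subgroup.zpowers_le.2 hxm hu
  · rw [hs] at hz hF'
    refine ⟨by rw [hc']; exact Nat.cast_ne_zero.2 (by omega), ?_⟩
    rcases lt_trichotomy z 0 with h | h | h
    · have : (p : ℤ) * z ≤ p * (-1) := mul_le_mul_of_nonneg_left (by omega) (Nat.cast_nonneg _)
      omega
    · subst h; omega
    · have : (p : ℤ) * 1 ≤ p * z := mul_le_mul_of_nonneg_left (by omega) (Nat.cast_nonneg _)
      omega

/-- A small remainder consists of one exceptional character. -/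
theorem remainder {ψ : G → ℂ} (hov : Over (θone D) ψ) {r : ℕ} (hr : r = d ∨ r = d + 1) {c : IrrCharacter G → ℕ}
    (hcψ : ∀ φ, c φ ≠ 0 → classInner ψ (φ : G → ℂ) ≠ 0) (hι : c (DegreeTools.oneChar G) = 0)
    (hc : ∑ φ, c φ * charDegree (φ : G → ℂ) = r) :
    W.Q.e = r ∧ ∃ η ∈ W.Q.Y, c η = 1 ∧ ∀ φ, φ ≠ η → c φ = 0 := by
  have hd := W.B.hd
  have h2 := W.B.two_le
  have hY : ∀ φ, c φ ≠ 0 → φ ∈ W.Q.Y := by
    intro φ h0
    have hle : charDegree (φ : G → ℂ) ≤ r := by
      refine le_trans (Nat.le_mul_of_pos_left _ (Nat.pos_of_ne_zero h0)) ?_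
      rw [← hc]
      exact Finset.single_le_sum (f := fun φ => c φ * charDegree (φ : G → ℂ)) (fun _ _ => Nat.zero_le _)
        (Finset.mem_univ φ)
    by_contra hY
    by_cases hX : φ ∈ W.Q.X
    · have hne : φ ≠ DegreeTools.oneChar G := fun e => h0 (e ▸ hι)
      rcases W.Q.sgn_X φ hX with hs | hs
      · have := ((W.deg_X hX hne).1 hs).2
        omega
      · have := ((W.deg_X hX hne).2 hs).2
        omega
    · have h := W.Q.classify (fdeg_θone D) (over_constituent W.B.K0_eq hov (hcψ φ h0)) hX hY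
      have := Nat.le_of_dvd (charDegree_pos φ) h
      omega
  obtain ⟨η, hη⟩ : ∃ η, c η ≠ 0 := by
    by_contra hall
    push Not at hall
    rw [Finset.sum_eq_zero fun φ _ => by rw [hall φ, zero_mul]] at hc
    omega
  have hsum : (∑ φ, c φ) * W.Q.e = r := by
    rw [← hc, Finset.sum_mul]
    refine Finset.sum_congr rfl fun φ _ => ?_
    rcases Nat.eq_zero_or_pos (c φ) with h | h
    · rw [h, zero_mul, zero_mul]
    · rw [W.Q.deg_Y φ (hY φ h.ne')]
  have hpos : 1 ≤ ∑ φ, c φ :=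
    le_trans (Nat.one_le_iff_ne_zero.2 hη) (Finset.single_le_sum (f := c) (fun _ _ => Nat.zero_le _) (Finset.mem_univ η))
  have hle : W.Q.e ≤ r := hsum ▸ Nat.le_mul_of_pos_left _ hpos
  have he : W.Q.e = d ∨ W.Q.e = d + 1 := by
    have hm := W.Q.mod_Y
    obtain ⟨z, hz⟩ := Int.modEq_iff_dvd.1 hm.symm
    rcases W.Q.sgn_A with hA | hA <;> rw [hA] at hz
    · rcases lt_trichotomy z 1 with h | h | h
      · have : (p : ℤ) * z ≤ p * 0 := mul_le_mul_of_nonneg_left (by omega) (Nat.cast_nonneg _)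
        omega
      · subst h; omega
      · have : (p : ℤ) * 2 ≤ p * z := mul_le_mul_of_nonneg_left (by omega) (Nat.cast_nonneg _)
        omega
    · rcases lt_trichotomy z 0 with h | h | h
      · have : (p : ℤ) * z ≤ p * (-1) := mul_le_mul_of_nonneg_left (by omega) (Nat.cast_nonneg _)
        omega
      · subst h; omega
      · have : (p : ℤ) * 1 ≤ p * z := mul_le_mul_of_nonneg_left (by omega) (Nat.cast_nonneg _)
        omega
  have hk : ∑ φ, c φ = 1 := by
    by_contra hne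
    have h3 : 2 * W.Q.e ≤ (∑ φ, c φ) * W.Q.e := Nat.mul_le_mul_right _ (by omega)
    omega
  rw [hk, one_mul] at hsum
  refine ⟨hsum, η, hY η hη, ?_, fun φ hne => ?_⟩
  · have := Finset.single_le_sum (f := c) (fun _ _ => Nat.zero_le _) (Finset.mem_univ η)
    omega
  · rw [← Finset.add_sum_erase _ _ (Finset.mem_univ η)] at hk
    have := Finset.single_le_sum (f := c) (fun _ _ => Nat.zero_le _) (Finset.mem_erase.2 ⟨hne, Finset.mem_univ φ⟩)
    omega

/-- The nonexceptional characters with sign `1`, and with sign `-1`. -/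
noncomputable def plus : Finset (IrrCharacter G) := W.Q.X.filter fun φ => W.Q.s φ = 1

/-- The nonexceptional characters with sign `-1`. -/
noncomputable def minus : Finset (IrrCharacter G) := W.Q.X.filter fun φ => W.Q.s φ = -1

theorem mem_plus {φ : IrrCharacter G} : φ ∈ W.plus ↔ φ ∈ W.Q.X ∧ W.Q.s φ = 1 := Finset.mem_filter
theorem mem_minus {φ : IrrCharacter G} : φ ∈ W.minus ↔ φ ∈ W.Q.X ∧ W.Q.s φ = -1 := Finset.mem_filter

theorem one_mem_plus : DegreeTools.oneChar G ∈ W.plus := W.mem_plus.2 ⟨W.one_mem, W.one_sgn⟩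

theorem minus_eq : W.minus = W.Q.X.filter fun φ => ¬ W.Q.s φ = 1 :=
  Finset.filter_congr fun φ hφ => by rcases W.Q.sgn_X φ hφ with h | h <;> simp [h]

theorem card_plus_minus : W.plus.card + W.minus.card = d := by
  rw [W.minus_eq, plus, Finset.card_filter_add_card_filter_not, W.Q.card_X]

theorem sum_split (F : IrrCharacter G → ℂ) : ∑ φ ∈ W.Q.X, F φ = ∑ φ ∈ W.plus, F φ + ∑ φ ∈ W.minus, F φ := by
  rw [W.minus_eq, plus, Finset.sum_filter_add_sum_filter_not]

/-- The structure of the two products. -/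
structure Shape2 : Prop where
  deg_plus : ∀ φ ∈ W.plus, φ ≠ DegreeTools.oneChar G → charDegree (φ : G → ℂ) = p + 1
  deg_minus : ∀ φ ∈ W.minus, charDegree (φ : G → ℂ) = p - 1
  supp_same : ∀ φ : IrrCharacter G, classInner (pr W.z W.z) (φ : G → ℂ) ≠ 0 →
    φ ∈ W.plus ∨ (φ ∈ W.Q.Y ∧ Even d)
  supp_mixed : ∀ φ : IrrCharacter G, classInner (pr W.z W.z') (φ : G → ℂ) ≠ 0 →
    φ ∈ W.minus ∨ (φ ∈ W.Q.Y ∧ Odd d)
  even_case : Even d → W.Q.A = 1 ∧ W.Q.e = d + 1 ∧ (∀ g, pr W.z W.z' g = ∑ φ ∈ W.minus, (φ : G → ℂ) g) ∧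
    ∃ η ∈ W.Q.Y, classInner (pr W.z W.z) (η : G → ℂ) = 1 ∧
      ∀ η' ∈ W.Q.Y, η' ≠ η → classInner (pr W.z W.z) (η' : G → ℂ) = 0
  odd_case : Odd d → W.Q.A = -1 ∧ W.Q.e = d ∧ (∀ g, pr W.z W.z g = ∑ φ ∈ W.plus, (φ : G → ℂ) g) ∧
    ∃ η ∈ W.Q.Y, classInner (pr W.z W.z') (η : G → ℂ) = 1 ∧
      ∀ η' ∈ W.Q.Y, η' ≠ η → classInner (pr W.z W.z') (η' : G → ℂ) = 0

theorem A_of_e {e : ℕ} (he : W.Q.e = e) (hcase : e = d ∨ e = d + 1) :
    (e = d → W.Q.A = -1) ∧ (e = d + 1 → W.Q.A = 1) := by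
  have hd := W.B.hd
  have h2 := W.B.two_le
  have hm := W.Q.mod_Y
  rw [he] at hm
  obtain ⟨z, hz⟩ := Int.modEq_iff_dvd.1 hm.symm
  constructor <;> intro h
  · refine W.Q.sgn_A.resolve_left fun hA => ?_
    rw [hA] at hz
    rcases lt_trichotomy z 0 with h1 | h1 | h1
    · have : (p : ℤ) * z ≤ p * (-1) := mul_le_mul_of_nonneg_left (by omega) (Nat.cast_nonneg _)
      omega
    · subst h1; omega
    · rcases eq_or_lt_of_le (show 1 ≤ z by omega) with h3 | h3
      · subst h3; omega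
      · have : (p : ℤ) * 2 ≤ p * z := mul_le_mul_of_nonneg_left (by omega) (Nat.cast_nonneg _)
        omega
  · refine W.Q.sgn_A.resolve_right fun hA => ?_
    rw [hA] at hz
    rcases lt_trichotomy z 0 with h1 | h1 | h1
    · have : (p : ℤ) * z ≤ p * (-1) := mul_le_mul_of_nonneg_left (by omega) (Nat.cast_nonneg _)
      omega
    · subst h1; omega
    · have : (p : ℤ) * 1 ≤ p * z := mul_le_mul_of_nonneg_left (by omega) (Nat.cast_nonneg _)
      omega

set_option maxHeartbeats 1000000 in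
theorem shape2 : W.Shape2 := by
  have hd := W.B.hd
  have h2 := W.B.two_le
  set ι := DegreeTools.oneChar G with hιdef
  set L : IrrCharacter G → ℕ := fun φ => if φ = ι then 1 else p + 1 with hLdef
  have hposp : ∀ φ ∈ W.plus, classInner (pr W.z W.z) (φ : G → ℂ) ≠ 0 := fun φ hφ => by
    by_cases h : φ = ι
    · rw [h, classInner_pr_one, Char.classInner_irr_self W.z.2]; exact one_ne_zero
    · exact ((W.deg_X (W.mem_plus.1 hφ).1 h).1 (W.mem_plus.1 hφ).2).1
  have hmne : ∀ φ ∈ W.minus, φ ≠ ι := fun φ hφ e => by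
    have h := (W.mem_minus.1 hφ).2
    rw [e, W.one_sgn] at h
    omega
  have hposm : ∀ φ ∈ W.minus, classInner (pr W.z W.z') (φ : G → ℂ) ≠ 0 := fun φ hφ =>
    ((W.deg_X (W.mem_minus.1 hφ).1 (hmne φ hφ)).2 (W.mem_minus.1 hφ).2).1
  have hLp : ∀ φ ∈ W.plus, L φ ≤ charDegree (φ : G → ℂ) := fun φ hφ => by
    by_cases h : φ = ι
    · simp only [hLdef, if_pos h]; exact charDegree_pos φ
    · simp only [hLdef, if_neg h]; exact ((W.deg_X (W.mem_plus.1 hφ).1 h).1 (W.mem_plus.1 hφ).2).2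
  have hLm : ∀ φ ∈ W.minus, p - 1 ≤ charDegree (φ : G → ℂ) := fun φ hφ =>
    ((W.deg_X (W.mem_minus.1 hφ).1 (hmne φ hφ)).2 (W.mem_minus.1 hφ).2).2
  have hmodp : ∀ φ ∈ W.plus, (charDegree (φ : G → ℂ) : ℤ) ≡ (L φ : ℤ) [ZMOD p] := fun φ hφ => by
    have h := W.Q.mod_X φ (W.mem_plus.1 hφ).1
    rw [(W.mem_plus.1 hφ).2] at h
    refine h.trans ?_
    by_cases h1 : φ = ι
    · simp only [hLdef, if_pos h1, Nat.cast_one]; rfl
    · simp only [hLdef, if_neg h1, Nat.cast_add, Nat.cast_one]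
      exact Int.modEq_iff_dvd.2 ⟨1, by ring⟩
  have hmodm : ∀ φ ∈ W.minus, (charDegree (φ : G → ℂ) : ℤ) ≡ ((p - 1 : ℕ) : ℤ) [ZMOD p] := fun φ hφ => by
    have h := W.Q.mod_X φ (W.mem_minus.1 hφ).1
    rw [(W.mem_minus.1 hφ).2] at h
    refine h.trans (Int.modEq_iff_dvd.2 ⟨1, ?_⟩)
    rw [Nat.cast_sub hp.out.one_le]
    push_cast
    ring
  obtain ⟨j, hj⟩ : ∃ j, W.plus.card = j + 1 :=
    ⟨W.plus.card - 1, by have := Finset.card_pos.2 ⟨_, W.one_mem_plus⟩; omega⟩
  set m := W.minus.card with hm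
  have hcard := W.card_plus_minus
  have hsumL : ∑ φ ∈ W.plus, L φ = 1 + j * (p + 1) := by
    rw [← Finset.add_sum_erase _ _ W.one_mem_plus, Finset.sum_congr rfl (g := fun _ => p + 1) fun φ hφ => by
      simp only [hLdef, if_neg (show ¬ φ = ι from Finset.ne_of_mem_erase hφ)], Finset.sum_const,
      Finset.card_erase_of_mem W.one_mem_plus, hj, smul_eq_mul]
    simp only [hLdef, ← hιdef, if_true, Nat.add_sub_cancel]
  have hsumM : ∑ φ ∈ W.minus, (p - 1) = m * (p - 1) := by rw [Finset.sum_const, smul_eq_mul]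
  have hb1 := sum_le_deg (isCharacter_pr W.z W.z) W.pr_one.1 W.plus L hposp hLp
  have hb2 := sum_le_deg (isCharacter_pr W.z W.z') W.pr_one.2 W.minus (fun _ => p - 1) hposm hLm
  rw [hsumL] at hb1
  rw [hsumM] at hb2
  have hj2 : 2 * j < d := by
    by_contra hc
    have h4 : d * (p + 1) ≤ 2 * j * (p + 1) := Nat.mul_le_mul_right _ (by omega)
    rw [show p + 1 = 2 * d + 2 by omega] at h4 hb1
    nlinarith
  have hm2 : 2 * m ≤ d := by
    rw [show p - 1 = 2 * d by omega] at hb2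
    exact Nat.le_of_mul_le_mul_right (show 2 * m * d ≤ d * d by linarith) (by omega)
  have hove := W.over_pr W.B.ov W.B.ov
  have hovm := W.over_pr W.B.ov W.B'.ov
  rcases Nat.even_or_odd d with ⟨k, hk⟩ | ⟨k, hk⟩
  · have hjk : j + 1 = k := by omega
    have hmk : m = k := by omega
    obtain ⟨hdp, c, hcin, hcsum, -⟩ := split (isCharacter_pr W.z W.z) W.plus L (r := d + 1)
      (by rw [W.pr_one.1, hsumL, show p + 1 = 2 * d + 2 by omega, hk, ← hjk]; push_cast; ring) (by omega) hposp hLp hmodp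
    obtain ⟨hdm, c', hcin', hcsum', hval'⟩ := split (isCharacter_pr W.z W.z') W.minus (fun _ => p - 1) (r := 0)
      (by rw [W.pr_one.2, hsumM, show p - 1 = 2 * d by omega, hk, hmk]; push_cast; ring) hp.out.pos hposm hLm hmodm
    have hz : ∀ φ, c' φ = 0 := fun φ =>
      (Nat.mul_eq_zero.1 (Finset.sum_eq_zero_iff.1 hcsum' φ (Finset.mem_univ φ))).resolve_right (charDegree_pos φ).ne'
    have hι : c ι = 0 := by
      have h := hcin ι
      rw [classInner_pr_one, Char.classInner_irr_self W.z.2, if_pos W.one_mem_plus] at h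
      have h' : (1 : ℕ) = c ι + 1 := by exact_mod_cast h
      omega
    obtain ⟨he, η, hη, hη1, hη0⟩ := W.remainder hove (Or.inr rfl)
      (fun φ h0 => by rw [hcin]; exact Nat.cast_ne_zero.2 (by omega)) hι hcsum
    have hnm : ∀ η' ∈ W.Q.Y, η' ∉ W.plus := fun η' h hp' => Finset.disjoint_left.1 W.Q.disj (W.mem_plus.1 hp').1 h
    refine ⟨fun φ hφ hne => ?_, fun φ hφ => hdm φ hφ, fun φ hne => ?_, fun φ hne => ?_, fun _ => ?_,
      fun ho => absurd ho (Nat.not_odd_iff_even.2 ⟨k, hk⟩)⟩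
    · rw [hdp φ hφ]; simp only [hLdef, hιdef, if_neg hne]
    · by_cases h : φ ∈ W.plus
      · exact Or.inl h
      · rw [hcin, if_neg h] at hne
        by_cases h1 : φ = η
        · exact Or.inr ⟨h1 ▸ hη, ⟨k, hk⟩⟩
        · rw [hη0 φ h1] at hne
          exact absurd Nat.cast_zero hne
    · by_cases h : φ ∈ W.minus
      · exact Or.inl h
      · rw [hcin', if_neg h, hz φ] at hne
        exact absurd Nat.cast_zero hne
    · refine ⟨(W.A_of_e he (Or.inr rfl)).2 rfl, he, fun g => ?_, η, hη, ?_, fun η' hη' hne => ?_⟩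
      · rw [hval', Finset.sum_eq_zero (s := Finset.univ) fun φ _ => by rw [hz φ, Nat.cast_zero, zero_mul], add_zero]
      · rw [hcin, hη1, if_neg (hnm η hη), Nat.cast_one]
      · rw [hcin, hη0 η' hne, if_neg (hnm η' hη'), Nat.cast_zero]
  · have hjk : j = k := by omega
    have hmk : m = k := by omega
    obtain ⟨hdp, c, hcin, hcsum, hval⟩ := split (isCharacter_pr W.z W.z) W.plus L (r := 0)
      (by rw [W.pr_one.1, hsumL, show p + 1 = 2 * d + 2 by omega, hk, hjk]; push_cast; ring) hp.out.pos hposp hLp hmodp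
    obtain ⟨hdm, c', hcin', hcsum', -⟩ := split (isCharacter_pr W.z W.z') W.minus (fun _ => p - 1) (r := d)
      (by rw [W.pr_one.2, hsumM, show p - 1 = 2 * d by omega, hk, hmk]; push_cast; ring) (by omega) hposm hLm hmodm
    have hz : ∀ φ, c φ = 0 := fun φ =>
      (Nat.mul_eq_zero.1 (Finset.sum_eq_zero_iff.1 hcsum φ (Finset.mem_univ φ))).resolve_right (charDegree_pos φ).ne'
    have hι : c' ι = 0 := by
      have h := hcin' ι
      rw [classInner_pr_one, Char.classInner_irr_ne W.z.2 W.z'.2 (fun e => W.ne (Subtype.ext e)),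
        if_neg (fun h => hmne ι h rfl)] at h
      exact_mod_cast h.symm
    obtain ⟨he, η, hη, hη1, hη0⟩ := W.remainder hovm (Or.inl rfl)
      (fun φ h0 => by rw [hcin']; exact Nat.cast_ne_zero.2 (by omega)) hι hcsum'
    have hnm : ∀ η' ∈ W.Q.Y, η' ∉ W.minus := fun η' h hp' => Finset.disjoint_left.1 W.Q.disj (W.mem_minus.1 hp').1 h
    refine ⟨fun φ hφ hne => ?_, fun φ hφ => hdm φ hφ, fun φ hne => ?_, fun φ hne => ?_,
      fun he' => absurd he' (Nat.not_even_iff_odd.2 ⟨k, hk⟩), fun _ => ?_⟩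
    · rw [hdp φ hφ]; simp only [hLdef, hιdef, if_neg hne]
    · by_cases h : φ ∈ W.plus
      · exact Or.inl h
      · rw [hcin, if_neg h, hz φ] at hne
        exact absurd Nat.cast_zero hne
    · by_cases h : φ ∈ W.minus
      · exact Or.inl h
      · rw [hcin', if_neg h] at hne
        by_cases h1 : φ = η
        · exact Or.inr ⟨h1 ▸ hη, ⟨k, hk⟩⟩
        · rw [hη0 φ h1] at hne
          exact absurd Nat.cast_zero hne
    · refine ⟨(W.A_of_e he (Or.inl rfl)).1 rfl, he, fun g => ?_, η, hη, ?_, fun η' hη' hne => ?_⟩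
      · rw [hval, Finset.sum_eq_zero (s := Finset.univ) fun φ _ => by rw [hz φ, Nat.cast_zero, zero_mul], add_zero]
      · rw [hcin', hη1, if_neg (hnm η hη), Nat.cast_one]
      · rw [hcin', hη0 η' hne, if_neg (hnm η' hη'), Nat.cast_zero]

end Pack

end CfsgLib.Char.DegHalf
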