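import Cfsg.Agent.Lib.CharDeep.ExactP.Main
import Cfsg.Agent.Lib.Char.Quotient
import Cfsg.Agent.Lib.Char.CliffordAbelian

/-!
# A faithful character of degree `(p - 1) / 2`: first reductions

The character is irreducible, also on each subgroup in which the Sylow subgroup is not normal.
-/

set_option autoImplicit false

open scoped Classical ComplexConjugate
open Subgroup

namespace CfsgLib.Char.DegHalf

open Cfsg CfsgLib CfsgLib.Blocks CfsgLib.Blocks.DefectOne CfsgLib.CharDeep

universe u

variable {G : Type u} [Group G] [Finite G] {p : ℕ} [hp : Fact p.Prime]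

/-- A faithful character of degree `(p - 1) / 2` is irreducible. -/
theorem isIrr_of_faithful (hsq : ¬ p ^ 2 ∣ Nat.card G) (P : Sylow p G) (hnn : ¬ (P : Subgroup G).Normal)
    {χ : G → ℂ} (hχ : IsCharacter G χ) (hfaith : ∀ g : G, χ g = χ 1 → g = 1)
    (hdeg : 2 * charDegree χ + 1 = p) : IsIrrCharacter G χ := by
  cases nonempty_fintype G
  obtain ⟨m, hm, hexp⟩ := Char.IsCharacter.exists_multiplicity hχ
  set d := charDegree χ
  have hd : χ 1 = (d : ℂ) := by
    obtain ⟨n, ρ, rfl⟩ := hχ
    simp only [d, charDegree, Representation.char_one, Module.finrank_fin_fun, Complex.natCast_re, Nat.floor_natCast]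
  have hsum : d = ∑ φ, m φ * charDegree (φ : G → ℂ) := by
    have h := hexp 1
    rw [hd] at h
    simp only [irr_one_eq] at h
    exact_mod_cast h
  by_cases hbig : ∃ φ, 0 < m φ ∧ d ≤ charDegree (φ : G → ℂ)
  · obtain ⟨φ, hφ, hle⟩ := hbig
    rw [← Finset.add_sum_erase _ _ (Finset.mem_univ φ)] at hsum
    have h1 : 1 * charDegree (φ : G → ℂ) ≤ m φ * charDegree (φ : G → ℂ) := Nat.mul_le_mul_right _ hφ
    have h0 : ∀ ξ ∈ Finset.univ.erase φ, m ξ * charDegree (ξ : G → ℂ) = 0 := by
      refine Finset.sum_eq_zero_iff.1 ?_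
      omega
    have hm1 : m φ = 1 := by
      have h2 : m φ * charDegree (φ : G → ℂ) = 1 * charDegree (φ : G → ℂ) := by omega
      exact Nat.eq_of_mul_eq_mul_right (charDegree_pos φ) h2
    suffices h : χ = (φ : G → ℂ) by rw [h]; exact φ.2
    funext g
    rw [hexp, ← Finset.add_sum_erase _ _ (Finset.mem_univ φ), hm1, Nat.cast_one, one_mul,
      Finset.sum_eq_zero fun ξ hξ => by
        rw [(Nat.mul_eq_zero.1 (h0 ξ hξ)).resolve_right (charDegree_pos ξ).ne', Nat.cast_zero, zero_mul],
      add_zero]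
  exfalso
  push Not at hbig
  set N := normalClosure ((P : Subgroup G) : Set G) with hN
  have hpow : ∀ n ∈ N, n ^ p = 1 := by
    intro n hn
    refine hfaith _ ?_
    rw [hexp, hexp 1]
    refine Finset.sum_congr rfl fun φ _ => ?_
    rcases Nat.eq_zero_or_pos (m φ) with h0 | hpos
    · simp [h0]
    congr 1
    set K := Char.charKer (Char.isCharacter_irr φ)
    haveI : K.Normal := Char.charKer_normal _
    obtain ⟨ψ, hψ, he⟩ := Char.IsCharacter.exists_deflate (Char.isCharacter_irr φ) K
      fun k hk => (Char.mem_charKer _).1 hk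
    have hdegψ : charDegree ψ = charDegree (φ : G → ℂ) := by
      simp only [charDegree, he, Function.comp_apply, map_one]
    have hψf : ∀ q : G ⧸ K, ψ q = ψ 1 → q = 1 := by
      intro q hq
      obtain ⟨g, rfl⟩ := QuotientGroup.mk'_surjective K q
      refine (QuotientGroup.eq_one_iff g).2 ((Char.mem_charKer _).2 ?_)
      simp only [he, Function.comp_apply, map_one]
      exact hq
    set Q := P.mapSurjective (QuotientGroup.mk'_surjective K)
    haveI hQ : (Q : Subgroup (G ⧸ K)).Normal := ExactP.sylow_normal_aux (Nat.card (G ⧸ K)) (G ⧸ K) rfl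
      (fun h => hsq (h.trans ⟨Nat.card K, K.card_eq_card_quotient_mul_card_subgroup⟩)) ψ hψ hψf
      (by rw [hdegψ]; have := hbig φ hpos; omega) Q
    have hle : N ≤ (Q : Subgroup (G ⧸ K)).comap (QuotientGroup.mk' K) :=
      normalClosure_le_normal fun u hu => ⟨u, hu, rfl⟩
    obtain ⟨u, hu, hue⟩ := hle hn
    have hup : u ^ p = 1 := by
      have hcard : Nat.card P ∣ p := by
        obtain ⟨a, ha⟩ := P.2.exists_card_eq
        rw [ha]
        rcases (show a = 0 ∨ a = 1 by
          by_contra hc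
          exact hsq ((pow_dvd_pow p (by omega : 2 ≤ a)).trans (ha ▸ (P : Subgroup G).card_subgroup_dvd_card)))
          with rfl | rfl <;> simp
      exact orderOf_dvd_iff_pow_eq_one.1 ((orderOf_dvd_natCard (P : Subgroup G) hu).trans hcard)
    have hK : n ^ p ∈ K := by
      rw [← QuotientGroup.eq_one_iff]
      show (QuotientGroup.mk' K) (n ^ p) = 1
      rw [map_pow, ← hue, ← map_pow, hup, map_one]
    exact (Char.mem_charKer _).1 hK
  refine hnn ?_
  have hNp : IsPGroup p N := fun n => ⟨1, Subtype.ext (by rw [pow_one, SubgroupClass.coe_pow, hpow n n.2]; rfl)⟩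
  rw [← P.3 hNp subset_normalClosure]
  infer_instance

/-- The subgroups in which `P` is not normal inherit the hypotheses. -/
theorem isIrr_restrict (hsq : ¬ p ^ 2 ∣ Nat.card G) (P : Sylow p G) {χ : G → ℂ} (hχ : IsCharacter G χ)
    (hfaith : ∀ g : G, χ g = χ 1 → g = 1) (hdeg : 2 * charDegree χ + 1 = p) (H : Subgroup G)
    (hPH : (P : Subgroup G) ≤ H) (hnH : ¬ H ≤ normalizer ((P : Subgroup G) : Set G)) :
    IsIrrCharacter H (fun h : H => χ h) := by
  refine isIrr_of_faithful (fun h => hsq (h.trans H.card_subgroup_dvd_card)) (P.subtype hPH) (fun hn => hnH ?_)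
    (Char.IsCharacter.restrict hχ H) (fun g e => SmallFaithful.faithful_restrict hfaith H g e) hdeg
  rw [Sylow.coe_subtype] at hn
  exact (normal_subgroupOf_iff_le_normalizer hPH).1 hn

/-- The centralizer of a noncentral element centralizing `P` normalizes `P`. -/
theorem centralizer_le_normalizer (hsq : ¬ p ^ 2 ∣ Nat.card G) (P : Sylow p G) {χ : G → ℂ}
    (hχ : IsIrrCharacter G χ) (hfaith : ∀ g : G, χ g = χ 1 → g = 1) (hdeg : 2 * charDegree χ + 1 = p) {c : G}
    (hcP : ∀ u ∈ (P : Subgroup G), Commute u c) (hc : c ∉ center G) :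
    centralizer ({c} : Set G) ≤ normalizer ((P : Subgroup G) : Set G) := by
  cases nonempty_fintype G
  by_contra hle
  refine hc (DegreeTools.mem_center_of_norm_eq ⟨χ, hχ⟩ hfaith c ?_)
  set C := centralizer ({c} : Set G)
  have hPC : (P : Subgroup G) ≤ C := fun u hu => mem_centralizer_singleton_iff.2 (hcP u hu).eq
  have hirr := isIrr_restrict hsq P (Char.IsIrrCharacter.isCharacter hχ) hfaith hdeg C hPC hle
  have hcC : c ∈ C := mem_centralizer_singleton_iff.2 rfl
  have hcz : (⟨c, hcC⟩ : C) ∈ center C := mem_center_iff.2 fun g =>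
    Subtype.ext (mem_centralizer_singleton_iff.1 g.2)
  obtain ⟨w, hw, -⟩ := CentralTrick.exists_scalar_center hirr hcz
  have hpow : ∀ n : ℕ, χ (c ^ n) = w ^ n * χ 1 := by
    intro n
    induction n with
    | zero => simp
    | succ n ih =>
      have h := hw ⟨c ^ n, pow_mem hcC n⟩
      simp only [Subgroup.coe_mul] at h
      rw [pow_succ, h, ih, pow_succ]
      ring
  have h1 := hpow (orderOf c)
  rw [pow_orderOf_eq_one] at h1
  have hne : χ 1 ≠ 0 := irr_one_ne_zero ⟨χ, hχ⟩
  have hw1 : w ^ orderOf c = 1 := (mul_eq_right₀ hne).1 h1.symm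
  have h2 := hpow 1
  rw [pow_one, pow_one] at h2
  show ‖χ c‖ = (charDegree χ : ℝ)
  rw [h2, norm_mul, Complex.norm_eq_one_of_pow_eq_one hw1 (orderOf_pos c).ne', one_mul,
    show χ 1 = (charDegree χ : ℂ) from irr_one_eq ⟨χ, hχ⟩, Complex.norm_natCast]

/-- `P` is not normal in a normal subgroup containing it. -/
theorem not_le_normalizer_of_normal (P : Sylow p G) (hnn : ¬ (P : Subgroup G).Normal) (M : Subgroup G) [M.Normal]
    (hPM : (P : Subgroup G) ≤ M) : ¬ M ≤ normalizer ((P : Subgroup G) : Set G) := by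
  intro hle
  haveI hQ : ((P.subtype hPM : Sylow p M) : Subgroup M).Normal := by
    rw [Sylow.coe_subtype]; exact (normal_subgroupOf_iff_le_normalizer hPM).2 hle
  have hc := Sylow.characteristic_of_normal _ hQ
  have := ConjAct.normal_of_characteristic_of_normal (K := (P.subtype hPM : Subgroup M))
  rw [Sylow.coe_subtype, subgroupOf_map_subtype, inf_eq_left.2 hPM] at this
  exact hnn this

/-- A nontrivial constituent of `χ * conj χ` does not have `P` in its kernel. -/
theorem constituent_moves [Fintype G] (hsq : ¬ p ^ 2 ∣ Nat.card G) (P : Sylow p G) (hnn : ¬ (P : Subgroup G).Normal)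
    {χ : G → ℂ} (hχ : IsIrrCharacter G χ) (hfaith : ∀ g : G, χ g = χ 1 → g = 1)
    (hdeg : 2 * charDegree χ + 1 = p) {φ : IrrCharacter G} (hne : φ ≠ DegreeTools.oneChar G)
    (hφ : classInner (fun g => χ g * conj (χ g)) (φ : G → ℂ) ≠ 0) :
    ∃ u ∈ (P : Subgroup G), (φ : G → ℂ) u ≠ (φ : G → ℂ) 1 := by
  by_contra hcon
  push Not at hcon
  set M := Char.charKer (Char.isCharacter_irr φ) with hM
  haveI : M.Normal := Char.charKer_normal _
  have hPM : (P : Subgroup G) ≤ M := fun u hu => (Char.mem_charKer _).2 (hcon u hu)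
  have hirr := isIrr_restrict hsq P (Char.IsIrrCharacter.isCharacter hχ) hfaith hdeg M hPM
    (not_le_normalizer_of_normal P hnn M hPM)
  have hψ : IsCharacter G (fun g => χ g * conj (χ g)) :=
    Char.IsCharacter.mul (Char.IsIrrCharacter.isCharacter hχ) (Char.IsCharacter.conj' (Char.IsIrrCharacter.isCharacter hχ))
  obtain ⟨a, ha, hexp⟩ := Char.IsCharacter.exists_multiplicity hψ
  have hsum : ∑ m : M, χ m * conj (χ m) = (Nat.card M : ℂ) := by
    have h := Char.classInner_irr_self hirr
    rwa [Cfsg.classInner, inv_mul_eq_iff_eq_mul₀ Char.card_ne_zero, mul_one] at h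
  have hpos : ∀ ξ : IrrCharacter G, ∃ n : ℕ, ∑ m : M, (ξ : G → ℂ) m = (Nat.card M : ℂ) * n := fun ξ => by
    obtain ⟨n, hn⟩ := Char.IsCharacter.classInner_nat (Char.IsCharacter.restrict (Char.isCharacter_irr ξ) M)
      (Char.isCharacter_irr (DegreeTools.oneChar M))
    refine ⟨n, ?_⟩
    rw [Cfsg.classInner, inv_mul_eq_iff_eq_mul₀ Char.card_ne_zero] at hn
    rw [← hn]
    exact Finset.sum_congr rfl fun m _ => by rw [DegreeTools.coe_oneChar, map_one, mul_one]
  choose n hn using hpos
  have h1 : ∑ ξ, a ξ * n ξ = 1 := by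
    have h : (Nat.card M : ℂ) * ((∑ ξ, a ξ * n ξ : ℕ) : ℂ) = (Nat.card M : ℂ) * 1 := by
      conv_rhs => rw [mul_one, ← hsum]
      rw [Finset.sum_congr rfl fun (m : M) _ => hexp (m : G), Finset.sum_comm, Nat.cast_sum, Finset.mul_sum]
      refine Finset.sum_congr rfl fun ξ _ => ?_
      rw [← Finset.mul_sum, hn, Nat.cast_mul]
      ring
    exact_mod_cast mul_left_cancel₀ Char.card_ne_zero h
  have hnφ : n φ = charDegree (φ : G → ℂ) := by
    have h := hn φ
    rw [Finset.sum_congr rfl (g := fun _ => (φ : G → ℂ) 1) fun m _ => (Char.mem_charKer _).1 m.2, Finset.sum_const,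
      Finset.card_univ, ← Nat.card_eq_fintype_card, nsmul_eq_mul, irr_one_eq] at h
    exact_mod_cast (mul_left_cancel₀ Char.card_ne_zero h).symm
  set ι := DegreeTools.oneChar G
  have hn1 : n ι = 1 := by
    have h := hn ι
    simp only [ι, DegreeTools.coe_oneChar, Finset.sum_const, Finset.card_univ, ← Nat.card_eq_fintype_card,
      nsmul_eq_mul, mul_one] at h
    exact_mod_cast (mul_left_cancel₀ Char.card_ne_zero (h.symm.trans (mul_one _).symm))
  have ha1 : a ι = 1 := by
    apply Nat.cast_injective (R := ℂ)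
    rw [← ha, Nat.cast_one, ← Char.classInner_irr_self hχ, Cfsg.classInner, Cfsg.classInner]
    simp [ι]
  have haφ : 0 < a φ := Nat.pos_of_ne_zero fun e => hφ (by rw [ha, e, Nat.cast_zero])
  rw [← Finset.add_sum_erase _ _ (Finset.mem_univ ι), ha1, hn1] at h1
  have h2 : ∑ ξ ∈ Finset.univ.erase ι, a ξ * n ξ = 0 := by omega
  have h3 := Finset.sum_eq_zero_iff.1 h2 φ (Finset.mem_erase.2 ⟨hne, Finset.mem_univ _⟩)
  rw [hnφ] at h3
  exact (Nat.mul_pos haφ (charDegree_pos φ)).ne' h3

end CfsgLib.Char.DegHalf
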