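import Cfsg.Agent.Lib.Char.DegHalf.Data

/-!
# A faithful character of degree `(p - 1) / 2`: splitting off nonexceptional constituents
-/

set_option autoImplicit false

open scoped ComplexConjugate Classical

namespace CfsgLib.Char.DegHalf

open Cfsg CfsgLib CfsgLib.Blocks CfsgLib.Blocks.DefectOne CfsgLib.CharDeep CfsgLib.CharDeep.ExactP

universe u

variable {G : Type u} [Group G] [Fintype G] {p : ℕ} [hp : Fact p.Prime] {P : Sylow p G} {D : Frame P}

/-- The product of one character with the conjugate of another. -/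
def pr (φ χ : IrrCharacter G) : G → ℂ := fun g => (φ : G → ℂ) g * conj ((χ : G → ℂ) g)

theorem isCharacter_pr (φ χ : IrrCharacter G) : IsCharacter G (pr φ χ) :=
  Char.IsCharacter.mul (Char.isCharacter_irr φ) (Char.IsCharacter.conj' (Char.isCharacter_irr χ))

theorem classInner_pr_one (φ χ : IrrCharacter G) :
    classInner (pr φ χ) (DegreeTools.oneChar G : G → ℂ) = classInner (φ : G → ℂ) (χ : G → ℂ) := by
  simp only [Cfsg.classInner, pr, DegreeTools.coe_oneChar, map_one, mul_one]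

omit hp in
/-- A function vanishing at the regular elements and a character with constant sign at the singular ones. -/
theorem inner_sing [Fact p.Prime] {μ : IrrCharacter D.K0} {d : ℕ} (K : HBlk D μ d) {F Φ : G → ℂ}
    (hreg : ∀ g : G, ¬ p ∣ orderOf g → F g = 0) (hΦc : IsClassFunction G Φ)
    (hΦ : ∀ (a : ZMod p), a ≠ 0 → ∀ v : D.K0, Φ (D.el a v : G) = (μ : D.K0 → ℂ) v)
    {φ : IrrCharacter G} (hφ : φ ∈ K.X) :
    classInner F (φ : G → ℂ) = (K.s φ : ℂ) * classInner F Φ := by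
  rw [Cfsg.classInner, Cfsg.classInner, mul_left_comm]
  congr 1
  rw [Finset.mul_sum]
  refine Finset.sum_congr rfl fun g _ => ?_
  by_cases hg : p ∣ orderOf g
  · obtain ⟨u, a, v, ha, hu⟩ := D.exists_conj_el hg
    have hΦg : Φ g = (μ : D.K0 → ℂ) v := by
      rw [← hΦ a ha v, ← hu]
      exact Char.IsClassFunction.apply_eq_of_isConj hΦc (isConj_iff.2 ⟨u, rfl⟩)
    rw [hΦg, ← irr_conj_apply φ g u, hu, K.val φ (Or.inl hφ) a ha v, K.sec_X φ hφ a ha, map_mul, map_intCast]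
    ring
  · rw [hreg g hg, zero_mul, zero_mul, mul_zero]

theorem le_of_modEq {x L : ℕ} (hL : (x : ℤ) ≡ (L : ℤ) [ZMOD p]) (hlt : L ≤ x) (hx : x < L + p) : x = L := by
  obtain ⟨z, hz⟩ := Int.modEq_iff_dvd.1 hL.symm
  rcases lt_trichotomy z 0 with h | h | h
  · have : (p : ℤ) * z ≤ p * (-1) := mul_le_mul_of_nonneg_left (by omega) (Nat.cast_nonneg _)
    omega
  · subst h; omega
  · have : (p : ℤ) * 1 ≤ p * z := mul_le_mul_of_nonneg_left (by omega) (Nat.cast_nonneg _)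
    omega

/-- The total degree of constituents occurring at least once is at most the degree. -/
theorem sum_le_deg {ψ : G → ℂ} (hψ : IsCharacter G ψ) {n : ℕ} (hn : ψ 1 = n) (T : Finset (IrrCharacter G))
    (L : IrrCharacter G → ℕ) (hpos : ∀ φ ∈ T, classInner ψ (φ : G → ℂ) ≠ 0)
    (hL : ∀ φ ∈ T, L φ ≤ charDegree (φ : G → ℂ)) : ∑ φ ∈ T, L φ ≤ n := by
  obtain ⟨a, ha, hexp⟩ := Char.IsCharacter.exists_multiplicity hψ
  have h := hexp 1
  rw [hn] at h
  simp only [irr_one_eq] at h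
  have h' : n = ∑ φ, a φ * charDegree (φ : G → ℂ) := by exact_mod_cast h
  rw [h']
  refine le_trans ?_ (Finset.sum_le_sum_of_subset (Finset.subset_univ T))
  refine Finset.sum_le_sum fun φ hφ => le_trans (hL φ hφ) (Nat.le_mul_of_pos_left _ (Nat.pos_of_ne_zero fun e => ?_))
  exact hpos φ hφ (by rw [ha, e, Nat.cast_zero])

/-- Splitting off constituents of known degree. -/
theorem split {ψ : G → ℂ} (hψ : IsCharacter G ψ) (T : Finset (IrrCharacter G)) (L : IrrCharacter G → ℕ) {r : ℕ}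
    (hn : ψ 1 = ((∑ φ ∈ T, L φ + r : ℕ) : ℂ)) (hr : r < p)
    (hpos : ∀ φ ∈ T, classInner ψ (φ : G → ℂ) ≠ 0)
    (hL : ∀ φ ∈ T, L φ ≤ charDegree (φ : G → ℂ))
    (hmod : ∀ φ ∈ T, (charDegree (φ : G → ℂ) : ℤ) ≡ (L φ : ℤ) [ZMOD p]) :
    (∀ φ ∈ T, charDegree (φ : G → ℂ) = L φ) ∧ ∃ c : IrrCharacter G → ℕ,
      (∀ φ : IrrCharacter G, classInner ψ (φ : G → ℂ) = ((c φ + if φ ∈ T then 1 else 0 : ℕ) : ℂ)) ∧
      ∑ φ, c φ * charDegree (φ : G → ℂ) = r ∧
      ∀ g, ψ g = ∑ φ ∈ T, (φ : G → ℂ) g + ∑ φ, (c φ : ℂ) * (φ : G → ℂ) g := by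
  obtain ⟨a, ha, hexp⟩ := Char.IsCharacter.exists_multiplicity hψ
  have ha1 : ∀ φ ∈ T, 1 ≤ a φ := fun φ hφ => Nat.pos_of_ne_zero fun e => hpos φ hφ (by rw [ha, e, Nat.cast_zero])
  set c : IrrCharacter G → ℕ := fun φ => a φ - (if φ ∈ T then 1 else 0) with hc
  have hca : ∀ φ, a φ = c φ + (if φ ∈ T then 1 else 0) := fun φ => by
    by_cases h : φ ∈ T
    · simp only [hc, if_pos h]
      have := ha1 φ h
      omega
    · simp only [hc, if_neg h, Nat.sub_zero, add_zero]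
  have hval : ∀ g, ψ g = ∑ φ ∈ T, (φ : G → ℂ) g + ∑ φ, (c φ : ℂ) * (φ : G → ℂ) g := fun g => by
    rw [hexp, ← Finset.sum_filter_add_sum_filter_not Finset.univ (fun φ => φ ∈ T)]
    have e : ∑ φ, (c φ : ℂ) * (φ : G → ℂ) g = ∑ φ ∈ Finset.univ.filter (fun φ => φ ∈ T), (c φ : ℂ) * (φ : G → ℂ) g
        + ∑ φ ∈ Finset.univ.filter (fun φ => φ ∉ T), (c φ : ℂ) * (φ : G → ℂ) g :=
      (Finset.sum_filter_add_sum_filter_not _ _ _).symm
    rw [e, ← add_assoc]
    refine congrArg₂ (· + ·) ?_ (Finset.sum_congr rfl fun φ hφ => ?_)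
    · rw [Finset.filter_mem_eq_inter, Finset.univ_inter, ← Finset.sum_add_distrib]
      refine Finset.sum_congr rfl fun φ hφ => ?_
      rw [hca, if_pos hφ]
      push_cast
      ring
    · rw [hca, if_neg (Finset.mem_filter.1 hφ).2, add_zero]
  have h1 := hval 1
  rw [hn] at h1
  simp only [irr_one_eq] at h1
  have hdeg : ∑ φ ∈ T, L φ + r = ∑ φ ∈ T, charDegree (φ : G → ℂ) + ∑ φ, c φ * charDegree (φ : G → ℂ) := by
    exact_mod_cast h1
  have heq : ∀ φ ∈ T, charDegree (φ : G → ℂ) = L φ := fun φ hφ => by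
    refine le_of_modEq (hmod φ hφ) (hL φ hφ) ?_
    have h2 : ∑ ξ ∈ T.erase φ, L ξ ≤ ∑ ξ ∈ T.erase φ, charDegree (ξ : G → ℂ) :=
      Finset.sum_le_sum fun ξ hξ => hL ξ (Finset.mem_of_mem_erase hξ)
    rw [← Finset.add_sum_erase _ _ hφ, ← Finset.add_sum_erase _ _ hφ] at hdeg
    omega
  refine ⟨heq, c, fun φ => by rw [ha, ← hca], ?_, hval⟩
  rw [Finset.sum_congr rfl heq] at hdeg
  exact (Nat.add_left_cancel hdeg).symm

end CfsgLib.Char.DegHalf
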