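import Cfsg.Agent.Lib.Char.DegHalf.Principal

/-!
# A faithful character of degree `(p - 1) / 2`: the block of the character

For even `d` the nonexceptional characters have degrees `p + 1` and `p - 1`; for odd `d` the block
is the principal block multiplied by a linear character.
-/

set_option autoImplicit false

open scoped ComplexConjugate Classical

namespace CfsgLib.Char.DegHalf

open Cfsg CfsgLib CfsgLib.Blocks CfsgLib.Blocks.DefectOne CfsgLib.CharDeep CfsgLib.CharDeep.ExactP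

universe u

variable {G : Type u} [Group G] [Fintype G] {p : ℕ} [hp : Fact p.Prime] {P : Sylow p G} {D : Frame P}
  {θ : IrrCharacter D.K0} {d : ℕ}

theorem classInner_mul_eq (z η χ : IrrCharacter G) :
    classInner ((z : G → ℂ) * (η : G → ℂ)) (χ : G → ℂ) = classInner (η : G → ℂ) (pr χ z) := by
  simp only [Cfsg.classInner, pr, Pi.mul_apply, map_mul, Complex.conj_conj]
  congr 1
  exact Finset.sum_congr rfl fun g _ => by ring

namespace Pack

variable (W : Pack D θ d)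

theorem minus_disjoint {φ : IrrCharacter G} (hY : φ ∈ W.Q.Y) : φ ∉ W.minus := fun h =>
  Finset.disjoint_left.1 W.Q.disj (W.mem_minus.1 h).1 hY

theorem plus_disjoint {φ : IrrCharacter G} (hY : φ ∈ W.Q.Y) : φ ∉ W.plus := fun h =>
  Finset.disjoint_left.1 W.Q.disj (W.mem_plus.1 h).1 hY

/-- The labels of the exceptional characters of the principal block. -/
theorem exists_labels : ∃ η₁ ∈ W.Q.Y, ∃ η₂ ∈ W.Q.Y, ∀ φ ∈ W.K.X,
    classInner ((W.z : G → ℂ) * (η₁ : G → ℂ)) (φ : G → ℂ) - classInner ((W.z : G → ℂ) * (η₂ : G → ℂ)) (φ : G → ℂ)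
      = (W.K.s φ : ℂ) := by
  have S := W.shape2
  have S' := W.swap.shape2
  have key : ∃ η₁ ∈ W.Q.Y, ∃ η₂ ∈ W.Q.Y,
      classInner (η₁ : G → ℂ) (pr W.z W.z) + classInner (η₁ : G → ℂ) (pr W.z' W.z) + 1
        = classInner (η₂ : G → ℂ) (pr W.z W.z) + classInner (η₂ : G → ℂ) (pr W.z' W.z) := by
    have hcm : ∀ (η : IrrCharacter G) (ψ : G → ℂ), IsCharacter G ψ →
        classInner (η : G → ℂ) ψ = classInner ψ (η : G → ℂ) := fun η ψ hψ =>
      Char.IsCharacter.classInner_comm (Char.isCharacter_irr η) hψ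
    obtain ⟨a, b, hab, hY⟩ := Finset.card_eq_two.1 W.Q.card_Y
    have hother : ∀ η ∈ W.Q.Y, ∃ η' ∈ W.Q.Y, η' ≠ η := fun η hη => by
      by_cases h : η = a
      · exact ⟨b, by rw [hY]; exact Finset.mem_insert_of_mem (Finset.mem_singleton_self _), h ▸ hab.symm⟩
      · exact ⟨a, by rw [hY]; exact Finset.mem_insert_self _ _, Ne.symm h⟩
    rcases Nat.even_or_odd d with he | ho
    · obtain ⟨-, -, -, η, hη, h1, h0⟩ := S.even_case he
      obtain ⟨η', hη', hne⟩ := hother η hη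
      have hz : ∀ η ∈ W.Q.Y, classInner (pr W.z' W.z) (η : G → ℂ) = 0 := fun η hη => by
        by_contra h
        rcases S'.supp_mixed η h with h' | ⟨-, h'⟩
        · exact W.minus_disjoint hη h'
        · exact Nat.not_odd_iff_even.2 he h'
      refine ⟨η', hη', η, hη, ?_⟩
      rw [hcm _ _ (isCharacter_pr _ _), hcm _ _ (isCharacter_pr _ _), hcm _ _ (isCharacter_pr _ _),
        hcm _ _ (isCharacter_pr _ _), h1, h0 η' hη' hne, hz η hη, hz η' hη']
      ring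
    · obtain ⟨-, -, -, η, hη, h1, h0⟩ := S'.odd_case ho
      obtain ⟨η', hη', hne⟩ := hother η hη
      have hz : ∀ η ∈ W.Q.Y, classInner (pr W.z W.z) (η : G → ℂ) = 0 := fun η hη => by
        by_contra h
        rcases S.supp_same η h with h' | ⟨-, h'⟩
        · exact W.plus_disjoint hη h'
        · exact Nat.not_odd_iff_even.2 h' ho
      have h1' : classInner (pr W.z' W.z) (η : G → ℂ) = 1 := h1
      have h0' : classInner (pr W.z' W.z) (η' : G → ℂ) = 0 := h0 η' hη' hne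
      refine ⟨η', hη', η, hη, ?_⟩
      rw [hcm _ _ (isCharacter_pr _ _), hcm _ _ (isCharacter_pr _ _), hcm _ _ (isCharacter_pr _ _),
        hcm _ _ (isCharacter_pr _ _), hz η hη, hz η' hη', h1', h0']
      ring
  obtain ⟨η₁, hη₁, η₂, hη₂, hk⟩ := key
  refine ⟨η₁, hη₁, η₂, hη₂, fun φ hφ => ?_⟩
  have hF := inner_sing W.K (F := (W.z : G → ℂ) * (η₁ : G → ℂ) - (W.z : G → ℂ) * (η₂ : G → ℂ))
    (Φ := fun g => -((W.z : G → ℂ) g + (W.z' : G → ℂ) g))
    (fun g hg => by rw [Pi.sub_apply, Pi.mul_apply, Pi.mul_apply, W.Q.agree η₁ hη₁ η₂ hη₂ g hg, sub_self])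
    (fun g h => by
      show -((W.z : G → ℂ) _ + (W.z' : G → ℂ) _) = -((W.z : G → ℂ) _ + (W.z' : G → ℂ) _)
      rw [Char.IsCharacter.isClassFunction (Char.isCharacter_irr W.z) g h,
        Char.IsCharacter.isClassFunction (Char.isCharacter_irr W.z') g h])
    (fun a ha v => by
      show -((W.z : G → ℂ) (D.el a v : G) + (W.z' : G → ℂ) (D.el a v : G)) = _
      rw [W.sum_sing a ha v, neg_neg]) hφ
  rw [Char.classInner_sub_left] at hF
  rw [hF, show (fun g => -((W.z : G → ℂ) g + (W.z' : G → ℂ) g)) = -((W.z : G → ℂ) + (W.z' : G → ℂ)) from rfl]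
  have hκ : classInner ((W.z : G → ℂ) * (η₁ : G → ℂ) - (W.z : G → ℂ) * (η₂ : G → ℂ))
      (-((W.z : G → ℂ) + (W.z' : G → ℂ))) = 1 := by
    rw [← classInner_mul_eq, ← classInner_mul_eq, ← classInner_mul_eq, ← classInner_mul_eq] at hk
    have e : classInner ((W.z : G → ℂ) * (η₁ : G → ℂ) - (W.z : G → ℂ) * (η₂ : G → ℂ))
        (-((W.z : G → ℂ) + (W.z' : G → ℂ)))
        = -(classInner ((W.z : G → ℂ) * (η₁ : G → ℂ)) (W.z : G → ℂ) + classInner ((W.z : G → ℂ) * (η₁ : G → ℂ)) (W.z' : G → ℂ)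
          - classInner ((W.z : G → ℂ) * (η₂ : G → ℂ)) (W.z : G → ℂ) - classInner ((W.z : G → ℂ) * (η₂ : G → ℂ)) (W.z' : G → ℂ)) := by
      simp only [Cfsg.classInner, ← mul_add, ← mul_sub, ← mul_neg, ← Finset.sum_add_distrib, ← Finset.sum_sub_distrib,
        ← Finset.sum_neg_distrib]
      congr 1
      exact Finset.sum_congr rfl fun g _ => by
        simp only [Pi.sub_apply, Pi.mul_apply, Pi.neg_apply, Pi.add_apply, map_neg, map_add]
        ring
    rw [e]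
    linear_combination -hk
  rw [hκ, mul_one]

/-- A linear character extending `θ` twists `ζ` into the principal block. -/
theorem of_linear (l : G →* ℂˣ) (hl : ∀ v : D.K0, (l (v : G) : ℂ) = (θ : D.K0 → ℂ) v) :
    W.Q.e = d ∧ ∀ η ∈ W.Q.Y, ∀ g : G, ¬ p ∣ orderOf g → (W.z : G → ℂ) g = (l g : ℂ) * (η : G → ℂ) g := by
  set ξ : IrrCharacter G := ⟨_, Char.IsIrrCharacter.mul_hom W.z.2 l⁻¹⟩ with hξ
  have hξv : ∀ g, (ξ : G → ℂ) g = (W.z : G → ℂ) g * ((l g)⁻¹ : ℂˣ) := fun g => rfl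
  have hov : Over (θone D) (ξ : G → ℂ) := (over_θone_iff _).2 fun g v => by
    rw [hξv, hξv, W.B.ov, map_mul, mul_inv, Units.val_mul, Units.val_inv_eq_inv_val (l (v : G)), hl]
    have hne : (θ : D.K0 → ℂ) v ≠ 0 := by rw [← hl]; exact Units.ne_zero _
    field_simp
  have hdeg : charDegree (ξ : G → ℂ) = d := by
    have h := hξv 1
    rw [irr_one_eq, irr_one_eq, map_one, inv_one, Units.val_one, mul_one, W.B.deg] at h
    exact_mod_cast h
  have hmem := W.B.mem_Y (fdeg_θone D) W.Q hov hdeg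
  refine ⟨(W.Q.deg_Y ξ hmem).symm.trans hdeg, fun η hη g hg => ?_⟩
  rw [← W.Q.agree ξ hmem η hη g hg, hξv, mul_comm ((W.z : G → ℂ) g), ← mul_assoc, ← Units.val_mul,
    mul_inv_cancel, Units.val_one, one_mul]

theorem deg_K {φ : IrrCharacter G} (hφ : φ ∈ W.K.X) :
    (W.K.s φ = 1 → charDegree (φ : G → ℂ) = 1 ∨ p + 1 ≤ charDegree (φ : G → ℂ)) ∧
      (W.K.s φ = -1 → p - 1 ≤ charDegree (φ : G → ℂ)) := by
  have hmod := W.K.mod_X φ hφ
  have hpos := charDegree_pos φ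
  refine ⟨fun hs => ?_, fun hs => ?_⟩ <;> rw [hs] at hmod
  · by_contra hc
    push Not at hc
    exact hc.1 (le_of_modEq (p := p) (L := 1) (by exact_mod_cast hmod) hpos (by omega))
  · obtain ⟨z, hz⟩ := Int.modEq_iff_dvd.1 hmod.symm
    rcases lt_trichotomy z 0 with h | h | h
    · have : (p : ℤ) * z ≤ p * (-1) := mul_le_mul_of_nonneg_left (by omega) (Nat.cast_nonneg _)
      omega
    · subst h; omega
    · have : (p : ℤ) * 1 ≤ p * z := mul_le_mul_of_nonneg_left (by omega) (Nat.cast_nonneg _)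
      omega

theorem exists_hom {φ : IrrCharacter G} (hφ : φ ∈ W.K.X) (h1 : charDegree (φ : G → ℂ) = 1) :
    ∃ l : G →* ℂˣ, ∀ v : D.K0, (l (v : G) : ℂ) = (θ : D.K0 → ℂ) v := by
  obtain ⟨l, hl⟩ := Char.exists_hom_of_apply_one_eq_one (Char.isCharacter_irr φ)
    (by rw [irr_one_eq, h1, Nat.cast_one])
  refine ⟨l, fun v => ?_⟩
  have h := W.K.ov W.B.K0_eq W.B.theta_one W.B.d_pos (Or.inl hφ) 1 v
  simpa [hl] using h

set_option maxHeartbeats 800000 in
/-- The block of `ζ`. -/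
theorem theta_block :
    (Odd d → ∃ l : G →* ℂˣ, ∀ η ∈ W.Q.Y, ∀ g : G, ¬ p ∣ orderOf g → (W.z : G → ℂ) g = (l g : ℂ) * (η : G → ℂ) g) ∧
      (Even d → (∀ φ ∈ W.K.X, W.K.s φ = 1 → charDegree (φ : G → ℂ) = p + 1) ∧
        (∀ φ ∈ W.K.X, W.K.s φ = -1 → charDegree (φ : G → ℂ) = p - 1) ∧
        ∀ η ∈ W.Q.Y, ∀ g : G, ¬ p ∣ orderOf g →
          ∑ φ ∈ W.K.X.filter (fun φ => W.K.s φ = 1), (φ : G → ℂ) g = (W.z : G → ℂ) g * (η : G → ℂ) g) := by
  have hd := W.B.hd
  have h2 := W.B.two_le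
  obtain ⟨η₁, hη₁, η₂, hη₂, hlab⟩ := W.exists_labels
  set Xp := W.K.X.filter (fun φ => W.K.s φ = 1) with hXp
  set Xm := W.K.X.filter (fun φ => ¬ W.K.s φ = 1) with hXm
  have hcard : Xp.card + Xm.card = d := by
    rw [hXp, hXm, Finset.card_filter_add_card_filter_not, W.K.card_X]
  have hmem_m : ∀ φ ∈ Xm, φ ∈ W.K.X ∧ W.K.s φ = -1 := fun φ hφ => by
    obtain ⟨h1, h2⟩ := Finset.mem_filter.1 hφ
    exact ⟨h1, (W.K.sgn_X φ h1).resolve_left h2⟩
  have hch : ∀ η : IrrCharacter G, IsCharacter G ((W.z : G → ℂ) * (η : G → ℂ)) := fun η =>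
    Char.IsCharacter.mul (Char.isCharacter_irr W.z) (Char.isCharacter_irr η)
  have hone : ∀ η ∈ W.Q.Y, ((W.z : G → ℂ) * (η : G → ℂ)) 1 = ((d * W.Q.e : ℕ) : ℂ) := fun η hη => by
    rw [Pi.mul_apply, irr_one_eq, irr_one_eq, W.B.deg, W.Q.deg_Y η hη, Nat.cast_mul]
  have hposp : ∀ φ ∈ Xp, classInner ((W.z : G → ℂ) * (η₁ : G → ℂ)) (φ : G → ℂ) ≠ 0 := fun φ hφ h0 => by
    obtain ⟨h1, h2⟩ := Finset.mem_filter.1 hφ
    have h := hlab φ h1
    obtain ⟨n, hn⟩ := Char.IsCharacter.classInner_nat (hch η₂) (Char.isCharacter_irr φ)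
    rw [h0, hn, h2] at h
    have h' : (0 : ℤ) - n = 1 := by exact_mod_cast h
    omega
  have hposm : ∀ φ ∈ Xm, classInner ((W.z : G → ℂ) * (η₂ : G → ℂ)) (φ : G → ℂ) ≠ 0 := fun φ hφ h0 => by
    obtain ⟨h1, h2⟩ := hmem_m φ hφ
    have h := hlab φ h1
    obtain ⟨n, hn⟩ := Char.IsCharacter.classInner_nat (hch η₁) (Char.isCharacter_irr φ)
    rw [h0, hn, h2] at h
    have h' : (n : ℤ) - 0 = -1 := by exact_mod_cast h
    omega
  have hLm : ∀ φ ∈ Xm, p - 1 ≤ charDegree (φ : G → ℂ) := fun φ hφ =>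
    (W.deg_K (hmem_m φ hφ).1).2 (hmem_m φ hφ).2
  have hb2 := sum_le_deg (hch η₂) (hone η₂ hη₂) Xm (fun _ => p - 1) hposm hLm
  rw [Finset.sum_const, smul_eq_mul] at hb2
  constructor
  · intro ho
    obtain ⟨-, he, -, -⟩ := W.shape2.odd_case ho
    suffices h : ∃ φ ∈ W.K.X, charDegree (φ : G → ℂ) = 1 by
      obtain ⟨φ, hφ, h1⟩ := h
      obtain ⟨l, hl⟩ := W.exists_hom hφ h1
      exact ⟨l, (W.of_linear l hl).2⟩
    by_contra hno
    push Not at hno
    have hb1 := sum_le_deg (hch η₁) (hone η₁ hη₁) Xp (fun _ => p + 1) hposp fun φ hφ => by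
      obtain ⟨h1, h2⟩ := Finset.mem_filter.1 hφ
      exact ((W.deg_K h1).1 h2).resolve_left (hno φ h1)
    rw [Finset.sum_const, smul_eq_mul, he, show p + 1 = 2 * d + 2 by omega] at hb1
    rw [he, show p - 1 = 2 * d by omega] at hb2
    have e2 : 2 * Xm.card ≤ d := Nat.le_of_mul_le_mul_right (show 2 * Xm.card * d ≤ d * d by linarith) (by omega)
    have e1 : 2 * Xp.card < d := by
      by_contra hc
      have := Nat.mul_le_mul_right (2 * d + 2) (not_lt.1 hc)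
      nlinarith
    omega
  · intro hev
    obtain ⟨-, he, -, -⟩ := W.shape2.even_case hev
    have hnolin : ∀ φ ∈ W.K.X, charDegree (φ : G → ℂ) ≠ 1 := fun φ hφ h1 => by
      obtain ⟨l, hl⟩ := W.exists_hom hφ h1
      have := (W.of_linear l hl).1
      omega
    have hLp : ∀ φ ∈ Xp, p + 1 ≤ charDegree (φ : G → ℂ) := fun φ hφ => by
      obtain ⟨h1, h2⟩ := Finset.mem_filter.1 hφ
      exact ((W.deg_K h1).1 h2).resolve_left (hnolin φ h1)
    have hb1 := sum_le_deg (hch η₁) (hone η₁ hη₁) Xp (fun _ => p + 1) hposp hLp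
    rw [Finset.sum_const, smul_eq_mul, he, show p + 1 = 2 * d + 2 by omega] at hb1
    rw [he, show p - 1 = 2 * d by omega] at hb2
    have e1 : 2 * Xp.card ≤ d :=
      Nat.le_of_mul_le_mul_right (show 2 * Xp.card * (d + 1) ≤ d * (d + 1) by linarith) (by omega)
    have e2 : 2 * Xm.card ≤ d + 1 := Nat.le_of_mul_le_mul_right (show 2 * Xm.card * d ≤ (d + 1) * d by linarith) (by omega)
    obtain ⟨k, hk⟩ := hev
    have hpk : Xp.card = k := by omega
    have hmk : Xm.card = k := by omega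
    obtain ⟨hdp, c, -, hcsum, hval⟩ := split (hch η₁) Xp (fun _ => p + 1) (r := 0)
      (by rw [hone η₁ hη₁, Finset.sum_const, smul_eq_mul, he, hpk, show p + 1 = 2 * d + 2 by omega, hk]; push_cast; ring)
      hp.out.pos hposp hLp (fun φ hφ => by
        obtain ⟨h1, h2⟩ := Finset.mem_filter.1 hφ
        refine ((W.K.mod_X φ h1).trans (by rw [h2])).trans (Int.modEq_iff_dvd.2 ⟨1, ?_⟩)
        push_cast; ring)
    obtain ⟨hdm, -⟩ := split (hch η₂) Xm (fun _ => p - 1) (r := d)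
      (by rw [hone η₂ hη₂, Finset.sum_const, smul_eq_mul, he, hmk, show p - 1 = 2 * d by omega, hk]; push_cast; ring)
      (show d < p by omega) hposm hLm (fun φ hφ => by
        obtain ⟨h1, h2⟩ := hmem_m φ hφ
        refine ((W.K.mod_X φ h1).trans (by rw [h2])).trans (Int.modEq_iff_dvd.2 ⟨1, ?_⟩)
        rw [Nat.cast_sub hp.out.one_le]; push_cast; ring)
    refine ⟨fun φ h1 h2 => hdp φ (Finset.mem_filter.2 ⟨h1, h2⟩),
      fun φ h1 h2 => hdm φ (Finset.mem_filter.2 ⟨h1, fun e => by rw [e] at h2; omega⟩), fun η hη g hg => ?_⟩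
    have h := hval g
    rw [Pi.mul_apply, Finset.sum_eq_zero (s := Finset.univ) fun φ _ => by
      rw [(Nat.mul_eq_zero.1 (Finset.sum_eq_zero_iff.1 hcsum φ (Finset.mem_univ φ))).resolve_right
        (charDegree_pos φ).ne', Nat.cast_zero, zero_mul], add_zero] at h
    rw [← h, W.Q.agree η₁ hη₁ η hη g hg]

end Pack

end CfsgLib.Char.DegHalf
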