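import Cfsg.Agent.Lib.Char.DegHalf.Positive

/-!
# A faithful character of degree `(p - 1) / 2`: absolute value at most one outside the centre
-/

set_option autoImplicit false

open scoped ComplexConjugate Classical

namespace CfsgLib.Char.DegHalf

open Cfsg CfsgLib CfsgLib.Blocks CfsgLib.Blocks.DefectOne CfsgLib.CharDeep CfsgLib.CharDeep.ExactP

universe u

variable {G : Type u} [Group G] [Fintype G] {p : ℕ} [hp : Fact p.Prime] {P : Sylow p G} {D : Frame P}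
  {θ : IrrCharacter D.K0} {d : ℕ}

namespace Pack

variable (W : Pack D θ d)

/-- The principal sum through the two halves. -/
theorem sum_Q (g : G) (S : W.Shape2) :
    (4 * (d : ℂ) * ((d : ℂ) + 1)) * ∑ φ ∈ W.Q.X, (φ : G → ℂ) g / (charDegree (φ : G → ℂ) : ℂ) =
      4 * (d : ℂ) * ((d : ℂ) + 1) + 2 * (d : ℂ) * (∑ φ ∈ W.plus, (φ : G → ℂ) g - 1)
        + 2 * ((d : ℂ) + 1) * ∑ φ ∈ W.minus, (φ : G → ℂ) g := by
  have hd := W.B.hd
  have hd0 : (d : ℂ) ≠ 0 := Nat.cast_ne_zero.2 W.B.d_pos.ne'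
  have hd1 : (d : ℂ) + 1 ≠ 0 := by exact_mod_cast (Nat.succ_ne_zero d)
  rw [W.sum_split, ← Finset.add_sum_erase _ _ W.one_mem_plus, ← Finset.add_sum_erase _ _ W.one_mem_plus,
    DegreeTools.deg_oneChar, Nat.cast_one, div_one, DegreeTools.coe_oneChar,
    Finset.sum_congr rfl (s₁ := W.plus.erase _) (g := fun φ : IrrCharacter G => (φ : G → ℂ) g / (2 * ((d : ℂ) + 1)))
      fun φ hφ => by
        rw [S.deg_plus φ (Finset.mem_of_mem_erase hφ) (Finset.ne_of_mem_erase hφ), show p + 1 = 2 * (d + 1) by omega]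
        push_cast
        rfl,
    Finset.sum_congr rfl (s₁ := W.minus) (g := fun φ : IrrCharacter G => (φ : G → ℂ) g / (2 * (d : ℂ))) fun φ hφ => by
      rw [S.deg_minus φ hφ, show p - 1 = 2 * d by omega]
      push_cast
      rfl,
    ← Finset.sum_div, ← Finset.sum_div]
  field_simp
  ring

/-- The relation of the principal block. -/
theorem rel_Q {η : IrrCharacter G} (hη : η ∈ W.Q.Y) {g : G} (hg : ¬ p ∣ orderOf g) :
    ∑ φ ∈ W.plus, (φ : G → ℂ) g - ∑ φ ∈ W.minus, (φ : G → ℂ) g + (W.Q.A : ℂ) * (η : G → ℂ) g = 0 := by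
  have h := W.Q.rel η hη g hg
  rw [W.sum_split, Finset.sum_congr rfl (s₁ := W.plus) fun φ hφ => by rw [(W.mem_plus.1 hφ).2, Int.cast_one, one_mul],
    Finset.sum_congr rfl (s₁ := W.minus) (g := fun φ : IrrCharacter G => -(φ : G → ℂ) g) fun φ hφ => by
      rw [(W.mem_minus.1 hφ).2]; push_cast; ring, Finset.sum_neg_distrib] at h
  linear_combination h

/-- The principal sum when `d` is even. -/
theorem blockSum_Q_even (hev : Even d) {η : IrrCharacter G} (hη : η ∈ W.Q.Y) {g : G} (hg : ¬ p ∣ orderOf g) :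
    (4 * (d : ℂ) * ((d : ℂ) + 1)) * blockSum W.Q ((d : ℤ) + 1) η g =
        2 * (p : ℂ) * ((d : ℂ) + pr W.z W.z g + (d : ℂ) * (η : G → ℂ) g) ∧
      (4 * (d : ℂ) * ((d : ℂ) + 1)) * blockSum W.Q (-(d : ℤ)) η g =
        2 * (p : ℂ) * ((d : ℂ) + pr W.z W.z g - (d : ℂ) * (η : G → ℂ) g) := by
  have S := W.shape2
  obtain ⟨hA, he, hm, -⟩ := S.even_case hev
  have hpd : (p : ℂ) = 2 * (d : ℂ) + 1 := by exact_mod_cast W.B.hd.symm
  have hd1 : (d : ℂ) + 1 ≠ 0 := by exact_mod_cast (Nat.succ_ne_zero d)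
  have hminus : ∑ φ ∈ W.minus, (φ : G → ℂ) g = pr W.z W.z g := by
    rw [← hm g, pr, pr, W.agree g hg]
  have hrel := W.rel_Q hη hg
  rw [hA, hminus, Int.cast_one, one_mul] at hrel
  have hplus : ∑ φ ∈ W.plus, (φ : G → ℂ) g = pr W.z W.z g - (η : G → ℂ) g := by linear_combination hrel
  constructor <;>
  · rw [blockSum, mul_add, W.sum_Q g S, hminus, hplus, he, hpd]
    push_cast
    field_simp
    ring

/-- The principal sum when `d` is odd. -/
theorem blockSum_Q_odd (ho : Odd d) {η : IrrCharacter G} (hη : η ∈ W.Q.Y) {g : G} (hg : ¬ p ∣ orderOf g) :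
    (4 * (d : ℂ) * ((d : ℂ) + 1)) * blockSum W.Q ((d : ℤ) + 1) η g =
        2 * (p : ℂ) * ((d : ℂ) + pr W.z W.z g + ((d : ℂ) + 1) * (η : G → ℂ) g) ∧
      (4 * (d : ℂ) * ((d : ℂ) + 1)) * blockSum W.Q (-(d : ℤ)) η g =
        2 * (p : ℂ) * ((d : ℂ) + pr W.z W.z g - ((d : ℂ) + 1) * (η : G → ℂ) g) := by
  have S := W.shape2
  obtain ⟨hA, he, hp', -⟩ := S.odd_case ho
  have hpd : (p : ℂ) = 2 * (d : ℂ) + 1 := by exact_mod_cast W.B.hd.symm
  have hd0 : (d : ℂ) ≠ 0 := Nat.cast_ne_zero.2 W.B.d_pos.ne'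
  have hrel := W.rel_Q hη hg
  rw [hA, ← hp' g] at hrel
  push_cast at hrel
  have hminus : ∑ φ ∈ W.minus, (φ : G → ℂ) g = pr W.z W.z g - (η : G → ℂ) g := by linear_combination -hrel
  constructor <;>
  · rw [blockSum, mul_add, W.sum_Q g S, hminus, ← hp' g, he, hpd]
    push_cast
    field_simp
    ring

/-- The sum over the block of `ζ` when `d` is even. -/
theorem blockSum_K_even (hev : Even d) {η : IrrCharacter G} (hη : η ∈ W.Q.Y) {g : G} (hg : ¬ p ∣ orderOf g) :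
    (4 * (d : ℂ) * ((d : ℂ) + 1)) * blockSum W.K ((d : ℤ) + 1) W.z g =
        2 * (p : ℂ) * ((W.z : G → ℂ) g * ((η : G → ℂ) g + ((d : ℂ) + 1))) ∧
      (4 * (d : ℂ) * ((d : ℂ) + 1)) * blockSum W.K (-(d : ℤ)) W.z g =
        2 * (p : ℂ) * ((W.z : G → ℂ) g * ((η : G → ℂ) g - ((d : ℂ) + 1))) := by
  obtain ⟨hdp, hdm, hsum⟩ := W.theta_block.2 hev
  obtain ⟨hY, hA, he⟩ := W.B.block_theta W.K
  have hd := W.B.hd
  have hpd : (p : ℂ) = 2 * (d : ℂ) + 1 := by exact_mod_cast hd.symm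
  have hd0 : (d : ℂ) ≠ 0 := Nat.cast_ne_zero.2 W.B.d_pos.ne'
  have hd1 : (d : ℂ) + 1 ≠ 0 := by exact_mod_cast (Nat.succ_ne_zero d)
  have hmem : ∀ φ ∈ W.K.X.filter (fun φ => ¬ W.K.s φ = 1), φ ∈ W.K.X ∧ W.K.s φ = -1 := fun φ hφ => by
    obtain ⟨h1, h2⟩ := Finset.mem_filter.1 hφ
    exact ⟨h1, (W.K.sgn_X φ h1).resolve_left h2⟩
  have hrel := W.K.rel W.z hY g hg
  rw [← Finset.sum_filter_add_sum_filter_not W.K.X (fun φ => W.K.s φ = 1),
    Finset.sum_congr rfl (s₁ := W.K.X.filter fun φ => W.K.s φ = 1) fun φ hφ => by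
      rw [(Finset.mem_filter.1 hφ).2, Int.cast_one, one_mul],
    Finset.sum_congr rfl (s₁ := W.K.X.filter fun φ => ¬ W.K.s φ = 1) (g := fun φ : IrrCharacter G => -(φ : G → ℂ) g)
      fun φ hφ => by rw [(hmem φ hφ).2]; push_cast; ring,
    Finset.sum_neg_distrib, hsum η hη g hg, hA] at hrel
  push_cast at hrel
  have hminus : ∑ φ ∈ W.K.X.filter (fun φ => ¬ W.K.s φ = 1), (φ : G → ℂ) g
      = (W.z : G → ℂ) g * (η : G → ℂ) g - (W.z : G → ℂ) g := by linear_combination -hrel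
  have hX : (4 * (d : ℂ) * ((d : ℂ) + 1)) * ∑ φ ∈ W.K.X, (φ : G → ℂ) g / (charDegree (φ : G → ℂ) : ℂ) =
      2 * (d : ℂ) * ((W.z : G → ℂ) g * (η : G → ℂ) g)
        + 2 * ((d : ℂ) + 1) * ((W.z : G → ℂ) g * (η : G → ℂ) g - (W.z : G → ℂ) g) := by
    rw [← hminus, ← hsum η hη g hg, ← Finset.sum_filter_add_sum_filter_not W.K.X (fun φ => W.K.s φ = 1)
      (fun φ => (φ : G → ℂ) g / (charDegree (φ : G → ℂ) : ℂ)),
      Finset.sum_congr rfl (s₁ := W.K.X.filter fun φ => W.K.s φ = 1)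
        (g := fun φ : IrrCharacter G => (φ : G → ℂ) g / (2 * ((d : ℂ) + 1))) fun φ hφ => by
        rw [hdp φ (Finset.mem_filter.1 hφ).1 (Finset.mem_filter.1 hφ).2, show p + 1 = 2 * (d + 1) by omega]
        push_cast
        rfl,
      Finset.sum_congr rfl (s₁ := W.K.X.filter fun φ => ¬ W.K.s φ = 1)
        (g := fun φ : IrrCharacter G => (φ : G → ℂ) g / (2 * (d : ℂ))) fun φ hφ => by
        rw [hdm φ (hmem φ hφ).1 (hmem φ hφ).2, show p - 1 = 2 * d by omega]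
        push_cast
        rfl,
      ← Finset.sum_div, ← Finset.sum_div]
    field_simp
    ring
  constructor <;>
  · rw [blockSum, mul_add, hX, he, hpd]
    push_cast
    field_simp
    ring

include W in
theorem scale {S T : ℂ} {r : ℂ} (h : (4 * (d : ℂ) * ((d : ℂ) + 1)) * S = 2 * (p : ℂ) * T)
    (h' : (4 * (d : ℂ) * ((d : ℂ) + 1)) * r = 2 * (p : ℂ)) : S = r⁻¹⁻¹ * T := by
  have hd0 : (4 * (d : ℂ) * ((d : ℂ) + 1)) ≠ 0 := by
    have h1 : (4 * d * (d + 1) : ℕ) ≠ 0 := by have := W.B.d_pos; positivity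
    exact_mod_cast h1
  rw [inv_inv]
  refine mul_left_cancel₀ hd0 ?_
  rw [h, ← mul_assoc, h']

/-- Outside the centre the absolute value is at most one. -/
theorem norm_le_one {g : G} (hg : ¬ p ∣ orderOf g) (hZ : g ∉ Subgroup.center G) : ‖(W.z : G → ℂ) g‖ ≤ 1 := by
  set a := ‖(W.z : G → ℂ) g‖ with ha
  have hle : a ≤ (d : ℝ) := by
    have := DegreeTools.norm_apply_le W.z g
    rwa [W.B.deg] at this
  have hlt : a < (d : ℝ) := lt_of_le_of_ne hle fun e =>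
    hZ (DegreeTools.mem_center_of_norm_eq W.z W.B.half.faithful g (by rw [← ha, e, W.B.deg]))
  suffices h : 2 * ((d : ℝ) + 1) * a ≤ 2 * (d : ℝ) + 2 * a ^ 2 by
    by_contra hc
    push Not at hc
    nlinarith [mul_pos (sub_pos.2 hc) (sub_pos.2 hlt)]
  have hu : pr W.z W.z g = ((a ^ 2 : ℝ) : ℂ) := by
    rw [pr, Complex.mul_conj', ← ha]
    push_cast
    rfl
  obtain ⟨η, hη⟩ : W.Q.Y.Nonempty := Finset.card_pos.1 (by rw [W.Q.card_Y]; norm_num)
  have h1 := W.compare hη hg (Or.inl rfl)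
  have h2 := W.compare hη hg (Or.inr rfl)
  set c : ℝ := 2 * (p : ℝ) / (4 * (d : ℝ) * ((d : ℝ) + 1)) with hc
  have hd0 : (0 : ℝ) < d := Nat.cast_pos.2 W.B.d_pos
  have hc0 : 0 < c := by
    have : (0 : ℝ) < p := Nat.cast_pos.2 hp.out.pos
    positivity
  have hcC : (4 * (d : ℂ) * ((d : ℂ) + 1)) * (c : ℂ) = 2 * (p : ℂ) := by
    have h : (4 * (d : ℝ) * ((d : ℝ) + 1)) * c = 2 * (p : ℝ) := by rw [hc]; field_simp
    exact_mod_cast h
  rcases Nat.even_or_odd d with hev | ho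
  · obtain ⟨q1, q2⟩ := W.blockSum_Q_even hev hη hg
    obtain ⟨k1, k2⟩ := W.blockSum_K_even hev hη hg
    rw [W.scale q1 hcC, W.scale k1 hcC, hu, inv_inv] at h1
    rw [W.scale q2 hcC, W.scale k2 hcC, hu, inv_inv] at h2
    obtain ⟨-, h1⟩ := h1
    obtain ⟨-, h2⟩ := h2
    simp only [norm_mul, Complex.norm_real, Real.norm_eq_abs, abs_of_pos hc0, ← ha,
      Complex.ofReal_im, Complex.add_re, Complex.sub_re, Complex.natCast_re, Complex.mul_re, Complex.natCast_im, Complex.ofReal_re,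
      zero_mul, sub_zero] at h1 h2
    have e1 := le_of_mul_le_mul_left h1 hc0
    have e2 := le_of_mul_le_mul_left h2 hc0
    have htri : 2 * ((d : ℝ) + 1) ≤ ‖(η : G → ℂ) g + ((d : ℂ) + 1)‖ + ‖(η : G → ℂ) g - ((d : ℂ) + 1)‖ := by
      refine le_trans (le_of_eq ?_) (norm_sub_le _ _)
      rw [show (η : G → ℂ) g + ((d : ℂ) + 1) - ((η : G → ℂ) g - ((d : ℂ) + 1)) = ((2 * (d + 1) : ℕ) : ℂ) by
        push_cast; ring, Complex.norm_natCast]
      push_cast
      ring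
    have := mul_le_mul_of_nonneg_left htri (norm_nonneg ((W.z : G → ℂ) g))
    rw [← ha] at this
    linarith
  · obtain ⟨q1, q2⟩ := W.blockSum_Q_odd ho hη hg
    obtain ⟨l, hl⟩ := W.theta_block.1 ho
    rw [W.scale q1 hcC, hu, inv_inv] at h1
    rw [W.scale q2 hcC, hu, inv_inv] at h2
    obtain ⟨i1, r1⟩ := h1
    obtain ⟨-, r2⟩ := h2
    have hl1 : ‖(l g : ℂ)‖ = 1 := by
      obtain ⟨k, hk, hk1⟩ := (isOfFinOrder_of_finite g).exists_pow_eq_one
      exact Complex.norm_eq_one_of_pow_eq_one (n := k)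
        (by rw [← Units.val_pow_eq_pow_val, ← map_pow, hk1, map_one, Units.val_one]) hk.ne'
    have hηa : ‖(η : G → ℂ) g‖ = a := by rw [ha, hl η hη g hg, norm_mul, hl1, one_mul]
    simp only [Complex.add_im, Complex.mul_im, Complex.natCast_re, Complex.natCast_im,
      Complex.ofReal_im, Complex.one_re, Complex.one_im, Complex.add_re, zero_mul, add_zero, zero_add] at i1
    have him : ((η : G → ℂ) g).im = 0 := by
      rcases mul_eq_zero.1 i1 with h | h
      · exact absurd h hc0.ne'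
      · exact (mul_eq_zero.1 h).resolve_left (by positivity)
    have hre : |((η : G → ℂ) g).re| = a := by
      rw [← hηa, Complex.norm_def, Complex.normSq_apply, him, mul_zero, add_zero, Real.sqrt_mul_self_eq_abs]
    simp only [Complex.add_re, Complex.sub_re, Complex.mul_re, Complex.natCast_re,
      Complex.natCast_im, Complex.ofReal_re, Complex.ofReal_im, Complex.one_re, Complex.one_im, Complex.add_im, zero_mul, sub_zero,
      add_zero] at r1 r2
    have n1 := le_trans (norm_nonneg _) r1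
    have n2 := le_trans (norm_nonneg _) r2
    have m1 := nonneg_of_mul_nonneg_right n1 hc0
    have m2 := nonneg_of_mul_nonneg_right n2 hc0
    rcases abs_cases ((η : G → ℂ) g).re with ⟨h, -⟩ | ⟨h, -⟩ <;> rw [h] at hre <;> nlinarith

end Pack

end CfsgLib.Char.DegHalf
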